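import Cfsg.Agent.Lib.LargeFischer.OfType
import Cfsg.Prelude.Def_TwoFusion

/-!
Fi₂₄ by a 2-central involution: the shared hypotheses.

* `Pre X z` : the hypotheses in a group equal to its 2-residual
* `Facts` : what the coordinates give on a subgroup of order 9797760 of the orthogonal group
-/

set_option autoImplicit false

namespace Cfsg.Agent.Fi24ByInvol

open LargeExtraspecial

universe u

/-- The hypotheses on a group `X` equal to its 2-residual. -/
structure Pre (X : Type u) [Group X] [Finite X] (z : X)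
    (Q N K : Subgroup (Subgroup.centralizer ({z} : Set X))) : Prop where
  hz : orderOf z = 2
  res : Cfsg.pResidual 2 X = ⊤
  ext : Cfsg.IsExtraspecial 2 Q
  card : Nat.card Q = 2 ^ 13
  cent : Subgroup.centralizer (Q : Set (Subgroup.centralizer ({z} : Set X))) ≤ Q
  qN : Q.Normal
  nN : N.Normal
  kN : K.Normal
  hQN : Q ≤ N
  hNK : N ≤ K
  hN : Nat.card N = 3 * Nat.card Q
  psu : ∃ (F : Type) (_ : Field F) (_ : Fintype F), Fintype.card F = 9 ∧
    Nonempty ((K ⧸ N.subgroupOf K) ≃* Cfsg.PSU 4 F 3)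

variable {V : Type u} [AddCommGroup V] [Module (ZMod 2) V]

/-- What is used about the group induced by `K` on `E / Z(E)`. -/
structure Facts (q : QuadraticForm (ZMod 2) V) (Γ : Subgroup (V ≃ₗ[ZMod 2] V)) : Prop where
  two_le : ∀ T : Subgroup (V ≃ₗ[ZMod 2] V), T ≤ Γ → IsPGroup 2 T → Nat.card T ≤ 128
  invol : ∀ s ∈ Γ, s * s = 1 → s ≠ 1 →
    Nat.card {v : V // s v = v} = 256 ∧ ∀ v, q (s v + v) = 0
  central : ∀ T R : Subgroup (V ≃ₗ[ZMod 2] V), T ≤ Γ → IsPGroup 2 T → R ≤ T →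
    (∀ r ∈ R, r * r = 1) → (∀ r ∈ R, ∀ t ∈ T, r * t = t * r) → 8 ≤ Nat.card R → Nat.card T ≤ 16

end Cfsg.Agent.Fi24ByInvol
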