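/-
Checks on the subgroup of order 128 generated by products of two transvections.

* `uGens`, `uEl`, `uInv` and their checks
-/
import Cfsg.Agent.Lib.LargeFischer.SylModel

set_option autoImplicit false
set_option maxRecDepth 100000
set_option Elab.async false

namespace Cfsg.Agent.Fi24ByInvol

open LargeFischer

/-- Generators, each with two vectors of the small orbit. -/
def uGens : List (ℕ × ℕ × ℕ) := [(346, 3930, 4005), (125, 240, 4095), (449, 3834, 3759), (469, 3549, 3774), (17, 3453, 3771), (347, 15, 240), (490, 4005, 3453)]

/-- A product of generators. -/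
def wordU : List (ℕ × ℕ × ℕ) → ℕ → ℕ
  | [], _ => 0
  | g :: l, m => if Nat.beq (m % 2) 1 then mulIdx g.1 (wordU l (m / 2)) else wordU l (m / 2)

/-- The elements. -/
def uEl : List ℕ := [0, 346, 125, 217, 449, 443, 317, 451, 469, 87, 145, 10, 472, 140, 456, 441, 17, 75, 218, 99, 491, 481, 252, 165, 134, 482, 115, 9, 118, 283, 480, 493, 347, 296, 93, 100, 485, 487, 462, 33, 130, 135, 290, 287, 474, 57, 489, 484, 37, 43, 229, 201, 444, 447, 391, 79, 239, 479, 52, 310, 249, 166, 442, 455, 490, 248, 58, 39, 309, 77, 328, 370, 307, 318, 453, 438, 48, 388, 76, 390, 250, 137, 348, 394, 31, 210, 448, 133, 289, 299, 102, 253, 396, 27, 286, 30, 230, 440, 357, 312, 36, 282, 120, 280, 300, 45, 486, 492, 367, 329, 116, 42, 267, 108, 292, 59, 149, 392, 303, 173, 395, 319, 446, 144, 483, 98, 90, 341]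

/-- Positions of the involutions, with the masks of their centralisers. -/
def uInv : List (ℕ × ℕ) := [(1, 340282366920938463463374607431768211455), (2, 16557098929935), (3, 16557098929935), (4, 14699749406203183155), (5, 14699749406203183155), (8, 1085086035219582735), (9, 1085086035219582735), (10, 4660480146812799619066433295), (11, 4660480146812799619066433295), (16, 4050053351341430295709675302275976195), (17, 4050053351341430295709675302275976195), (26, 271431459995301108988294920324951297075), (27, 271431459995301108988294920324951297075), (30, 14699749406203183155), (31, 14699749406203183155), (32, 18374687579166474495), (33, 18374687579166474495), (34, 4222189076152335), (35, 4222189076152335), (36, 14699749406203183155), (37, 14699749406203183155), (50, 868082073905332995), (51, 868082073905332995), (58, 14757226376558555955), (59, 14757226376558555955), (62, 14699749406203183155), (63, 14699749406203183155), (64, 3717503619053011369294236675), (65, 3717503619053011369294236675), (74, 3717503619053011369294236675), (75, 3717503619053011369294236675), (80, 3717503619053011369294236675),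 (81, 3717503619053011369294236675), (90, 3717503619053011369294236675), (91, 3717503619053011369294236675)]

/-- An element by position. -/
def uAt (k : ℕ) : ℕ := uEl.getD k 0

theorem gens_ok : (uGens.all fun g => decide (g.1 < 512) && decide (g.2.1 < 4096) && decide (g.2.2 < 4096) &&
    inSmall 0 g.2.1 && inSmall 0 g.2.2 && (List.range 12).all fun b =>
      Nat.beq (fe g.1 (2 ^ b)) (tr g.2.1 (tr g.2.2 (2 ^ b)))) = true := by decide +kernel

theorem words_ok : ((List.range 128).all fun k => Nat.beq (wordU uGens k) (uAt k) && decide (uAt k < 512)) = true := by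
  decide +kernel

theorem tr_ok : (decide (63 < 512) && inSmall 0 3771 &&
    (List.range 12).all fun b => Nat.beq (fe 63 (2 ^ b)) (tr 3771 (2 ^ b))) = true := by decide +kernel

theorem distinct_ok : (((List.range 128).map uAt ++ (List.range 128).map (fun k => mulIdx (uAt k) 63))).Nodup := by
  decide +kernel

theorem inv_ok : ((List.range 128).all fun k => !Nat.beq (mulIdx (uAt k) (uAt k)) 0 || Nat.beq (uAt k) 0 ||
    uInv.any fun p => Nat.beq p.1 k) = true := by decide +kernel

theorem mask_ok : (uInv.all fun p => decide (p.1 < 128) && (List.range 128).all fun k =>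
    Nat.testBit p.2 k == Nat.beq (mulIdx (uAt p.1) (uAt k)) (mulIdx (uAt k) (uAt p.1))) = true := by
  decide +kernel

/-- The number of common set bits below 128 of three masks. -/
def common (a b c : ℕ) : ℕ := ((List.range 128).filter fun k => Nat.testBit (Nat.land a (Nat.land b c)) k).length

theorem triple_ok : (uInv.all fun p => uInv.all fun r =>
    !(Nat.blt p.1 r.1 && Nat.testBit p.2 r.1) || uInv.all fun t =>
      !(Nat.blt r.1 t.1 && Nat.testBit p.2 t.1 && Nat.testBit r.2 t.1) ||
        Nat.beq (uAt t.1) (mulIdx (uAt p.1) (uAt r.1)) || Nat.ble (common p.2 r.2 t.2) 16) = true := by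
  decide +kernel

theorem fix_ok0 : (([1, 2, 3, 4, 5] : List ℕ).all fun p =>
    ((List.range 4096).all fun x => Nat.beq (qn (Nat.xor (fe (uAt p) x) x)) 0) &&
      Nat.beq ((List.range 4096).filter fun x => Nat.beq (fe (uAt p) x) x).length 256) = true := by decide +kernel

theorem fix_ok1 : (([8, 9, 10, 11, 16] : List ℕ).all fun p =>
    ((List.range 4096).all fun x => Nat.beq (qn (Nat.xor (fe (uAt p) x) x)) 0) &&
      Nat.beq ((List.range 4096).filter fun x => Nat.beq (fe (uAt p) x) x).length 256) = true := by decide +kernel

theorem fix_ok2 : (([17, 26, 27, 30, 31] : List ℕ).all fun p =>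
    ((List.range 4096).all fun x => Nat.beq (qn (Nat.xor (fe (uAt p) x) x)) 0) &&
      Nat.beq ((List.range 4096).filter fun x => Nat.beq (fe (uAt p) x) x).length 256) = true := by decide +kernel

theorem fix_ok3 : (([32, 33, 34, 35, 36] : List ℕ).all fun p =>
    ((List.range 4096).all fun x => Nat.beq (qn (Nat.xor (fe (uAt p) x) x)) 0) &&
      Nat.beq ((List.range 4096).filter fun x => Nat.beq (fe (uAt p) x) x).length 256) = true := by decide +kernel

theorem fix_ok4 : (([37, 50, 51, 58, 59] : List ℕ).all fun p =>
    ((List.range 4096).all fun x => Nat.beq (qn (Nat.xor (fe (uAt p) x) x)) 0) &&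
      Nat.beq ((List.range 4096).filter fun x => Nat.beq (fe (uAt p) x) x).length 256) = true := by decide +kernel

theorem fix_ok5 : (([62, 63, 64, 65, 74] : List ℕ).all fun p =>
    ((List.range 4096).all fun x => Nat.beq (qn (Nat.xor (fe (uAt p) x) x)) 0) &&
      Nat.beq ((List.range 4096).filter fun x => Nat.beq (fe (uAt p) x) x).length 256) = true := by decide +kernel

theorem fix_ok6 : (([75, 80, 81, 90, 91] : List ℕ).all fun p =>
    ((List.range 4096).all fun x => Nat.beq (qn (Nat.xor (fe (uAt p) x) x)) 0) &&
      Nat.beq ((List.range 4096).filter fun x => Nat.beq (fe (uAt p) x) x).length 256) = true := by decide +kernel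

theorem comm_ok : mulIdx (mulIdx 1 2) (mulIdx (invIdx 1) (invIdx 2)) = 9 ∧
    mulIdx (mulIdx 1 5) (mulIdx (invIdx 1) (invIdx 5)) = 115 := by decide +kernel

theorem semi_ok : mulIdx 2 2 = 0 ∧ Nat.beq (fe 2 (nmul 1)) (nmul (fe 2 1)) = false ∨
    mulIdx 2 2 = 0 ∧ Nat.beq (fe 2 (nmul 15)) (nmul (fe 2 15)) = false := by decide +kernel

end Cfsg.Agent.Fi24ByInvol
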