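/-
Checks for the case where all automorphisms of the coordinates occur.

* `wB`, `parity`, their checks
-/
import Cfsg.Agent.Lib.LargeFischer.SylModel

set_option autoImplicit false
set_option maxRecDepth 100000
set_option Elab.async false

namespace Cfsg.Agent.Fi24ByInvol

open LargeFischer

/-- A basis of the common perpendicular of 15, its multiple and 16. -/
def wB : List ℕ := [5, 10, 16, 64, 128, 256, 512, 1024, 2048]

/-- A parity of words, by a mask of generators. -/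
def parity (m : ℕ) : ℕ → ℕ → Bool
  | 0, _ => false
  | f + 1, i => if Nat.beq i 0 then false else xor (Nat.testBit m (parGen i)) (parity m f (parIdx i))

/-- The commutator of two elements. -/
def cmIdx (i j : ℕ) : ℕ := mulIdx (mulIdx i j) (mulIdx (invIdx i) (invIdx j))

/-- Witnesses. -/
def commWit : List (ℕ × ℕ × ℕ × ℕ) := [(1, 2, 1, 5), (2, 5, 2, 6), (1, 4, 1, 5), (3, 6, 3, 7), (4, 5, 4, 6), (1, 5, 1, 7), (5, 6, 5, 7), (1, 2, 1, 7), (2, 6, 2, 7), (1, 4, 1, 7), (4, 6, 4, 7), (1, 7, 1, 20), (1, 7, 1, 18), (6, 7, 6, 8), (2, 5, 2, 7), (3, 7, 3, 14), (4, 5, 4, 7), (5, 7, 5, 8), (2, 7, 2, 8), (4, 7, 4, 8), (7, 8, 7, 9), (3, 6, 3, 8), (1, 5, 1, 8), (5, 6, 5, 11), (1, 2, 1, 8), (2, 6, 2, 8), (1, 4, 1, 8), (4, 6, 4, 8), (1, 8, 1, 20), (1, 8, 1, 18), (6, 8, 6, 10), (2, 5, 2, 8), (3, 8, 3, 14), (4, 5, 4, 8), (5, 8, 5, 11), (2, 8, 2, 13), (2, 8, 2, 11), (4, 8, 4, 10), (2, 8, 2, 12), (8, 9, 8, 11),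 (6, 7, 6, 11), (5, 7, 5, 11), (2, 7, 2, 13), (2, 7, 2, 11), (4, 7, 4, 10), (2, 7, 2, 12), (7, 9, 7, 10), (3, 6, 3, 15), (1, 5, 1, 22), (1, 5, 1, 18), (1, 2, 1, 38), (2, 6, 2, 15), (1, 4, 1, 20), (1, 2, 1, 25), (2, 6, 2, 11), (4, 6, 4, 13), (1, 2, 1, 30), (2, 6, 2, 12), (1, 20, 1, 22), (1, 18, 1, 20), (6, 10, 6, 11), (2, 5, 2, 15), (3, 14, 3, 15), (2, 5, 2, 11), (4, 5, 4, 10), (2, 5, 2, 12), (1, 5, 1, 21), (5, 11, 5, 14), (1, 2, 1, 37), (2, 13, 2, 14), (2, 11, 2, 13), (4, 10, 4, 13), (2, 12, 2, 13), (1, 20, 1, 21), (9, 15, 10, 11)]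

theorem commWit_ok : (commWit.all fun w => decide (w.1 < 512) && decide (w.2.1 < 512) && decide (w.2.2.1 < 512) &&
      decide (w.2.2.2 < 512) && !Nat.beq (cmIdx w.1 w.2.1) 0 && !Nat.beq (cmIdx w.2.2.1 w.2.2.2) 0 &&
      !Nat.beq (cmIdx w.1 w.2.1) (cmIdx w.2.2.1 w.2.2.2)) = true ∧
    ((List.range 256).all fun m => commWit.any fun w =>
      !parity m 5 w.1 && !parity m 5 w.2.1 && !parity m 5 w.2.2.1 && !parity m 5 w.2.2.2) = true := by
  decide +kernel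

theorem wB_ok : (wB.all fun w => decide (w < 4096) && Nat.beq (bn 15 w) 0 && Nat.beq (bn (nmul 15) w) 0 &&
      Nat.beq (bn 16 w) 0) = true ∧
    ((List.range 4096).all fun x => (wB.any fun w => Nat.beq (bn x w) 1) || Nat.beq (qn x) 1 ||
      [0, 15, 5, 10].contains x) = true ∧
    ((List.range 512).map (comb wB)).Nodup ∧ qn 16 = 1 ∧ bn 15 16 = 0 ∧ bn (nmul 15) 16 = 0 ∧
    nmul 15 = 5 ∧ nmul 5 = 10 ∧ inSmall 0 5 = true ∧ inSmall 0 10 = true ∧ inSmall 0 15 = true := by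
  decide +kernel

theorem cspan_ok : ((List.range 4096).all fun x => !(Nat.beq (bn 15 x) 0 && Nat.beq (bn (nmul 15) x) 0) ||
    ([0, 16].any fun u => (List.range 512).any fun m => Nat.beq (comb wB m) (Nat.xor x (nmul u))) ) = true := by
  decide +kernel

theorem pts_perp : ((List.range 4096).all fun x => !inP 0 x || (Nat.beq (bn 15 x) 0 && Nat.beq (bn (nmul 15) x) 0)) = true := by
  decide +kernel

end Cfsg.Agent.Fi24ByInvol
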