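/-
Orbits on singular vectors of the group of order 9797760 with a frame (variant of `LargeFischer.Count`).

* `orbit_structure`
-/
import Cfsg.Agent.Lib.LargeFischer.Root
import Cfsg.Agent.Lib.LargeFischer.Coord

set_option autoImplicit false
set_option maxRecDepth 100000

namespace Cfsg.Agent.Fi24ByInvol

open LargeFischer

variable {V : Type*} [AddCommGroup V] [Module (ZMod 2) V] [Finite V] {q : QuadraticForm (ZMod 2) V}
  {Γ : Subgroup (V ≃ₗ[ZMod 2] V)} {n : V ≃ₗ[ZMod 2] V}

set_option maxHeartbeats 1000000 in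
/-- The partition of the classes, and the orders of stabilisers. -/
theorem orbit_structure (F : Frame q Γ n) (hnd : ∀ v, (∀ w, QuadraticMap.polar q v w = 0) → v = 0)
    (hΓ : ∀ γ ∈ Γ, ∀ v, q (γ v) = q v) (hcard : Nat.card Γ = 9797760) (hnΓ : n ∈ Γ) (hn : n ^ 3 = 1)
    {g : V ≃ₗ[ZMod 2] V} (hgΓ : g ∈ Γ) (hg7 : g ^ 7 = 1) (hg1 : g ≠ 1) (hgn : g * n = n * g) :
    ∃ r : Fin 3, (∀ a b : Code, (cls a).isSome = true → (cls b).isSome = true →
        (F.Rel a b ↔ side r (cls a) = side r (cls b))) ∧
      ∀ a : Code, (cls a).isSome = true →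
        Nat.card (MulAction.stabilizer Γ (F.psi a)) = if side r (cls a) then 25920 else 5760 := by
  classical
  haveI : Fintype V := Fintype.ofFinite V
  haveI : Fact (Nat.Prime 7) := ⟨by norm_num⟩
  haveI : Fact (Nat.Prime 3) := ⟨by norm_num⟩
  let e := Equiv.ofBijective F.psi F.bij
  let Cl : Fin 5 → Finset Code := fun i => Finset.univ.filter fun a => cls a = some i
  let size : Fin 5 → ℕ := fun i => [135, 1215, 243, 243, 243].getD i.val 0
  have hCl : ∀ i, (Cl i).card = size i := cls_card
  have hsum : ∀ b : Fin 5 → Bool, ((Finset.univ.filter fun i => b i = true).biUnion Cl).card =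
      ∑ i, if b i = true then size i else 0 := by
    intro b
    rw [Finset.card_biUnion, Finset.sum_filter]
    · simp only [hCl]
    · intro i _ j _ hij
      exact Finset.disjoint_left.2 fun a ha hb => hij (Option.some.inj
        ((Finset.mem_filter.1 ha).2.symm.trans (Finset.mem_filter.1 hb).2))
  -- non-zero singular vectors
  let S : Finset V := Finset.univ.filter fun v => v ≠ 0 ∧ q v = 0
  have hS : S.card = 2079 := by
    have : S = ((Finset.univ.filter fun i : Fin 5 => (fun _ => true) i = true).biUnion Cl).map e.toEmbedding := by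
      ext v
      obtain ⟨a, rfl⟩ := F.bij.2 v
      simp only [S, Finset.mem_filter, Finset.mem_univ, true_and, F.singular_iff, Finset.mem_map,
        Finset.mem_biUnion, Cl, Option.isSome_iff_exists]
      constructor
      · rintro ⟨i, hi⟩; exact ⟨a, ⟨i, hi⟩, rfl⟩
      · rintro ⟨b, ⟨i, hi⟩, hb⟩
        exact ⟨i, by rw [← F.bij.1 hb]; exact hi⟩
    rw [this, Finset.card_map, hsum]
    simp [size, Fin.sum_univ_five]
  have hSg : ∀ γ ∈ Γ, ∀ x ∈ S, γ x ∈ S := by
    intro γ hγ x hx
    simp only [S, Finset.mem_filter, Finset.mem_univ, true_and] at hx ⊢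
    exact ⟨fun h => hx.1 (γ.injective (h.trans (map_zero γ).symm)), (hΓ γ hγ x).trans hx.2⟩
  -- the fixed points of g
  let p : V → V := fun v => ∑ i ∈ Finset.range 7, (g ^ i) v
  have hgp : ∀ v, g (p v) = p v := by
    intro v
    simp only [p, map_sum, show ∀ i, g ((g ^ i) v) = (g ^ (i + 1)) v from fun i => by rw [pow_succ']; rfl]
    rw [Finset.sum_range_succ' (fun i => (g ^ i) v) 6, Finset.sum_range_succ, hg7, pow_zero]
  have hpadd : ∀ v w, p (v + w) = p v + p w := fun v w => by simp [p, Finset.sum_add_distrib]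
  have hpg : ∀ v, p (g v) = p v := fun v => by
    rw [← hgp v]
    simp only [p, map_sum]
    exact Finset.sum_congr rfl fun i _ => by
      show (g ^ i * g) v = (g * g ^ i) v
      rw [← pow_succ, ← pow_succ']
  have hpfix : ∀ w, g w = w → p w = w := by
    intro w hw
    have : ∀ i : ℕ, (g ^ i) w = w := by
      intro i; induction i with
      | zero => rfl
      | succ i ih => rw [pow_succ]; show (g ^ i) (g w) = w; rw [hw, ih]
    simp only [p, this, Finset.sum_const, Finset.card_range]
    rw [show (7 : ℕ) = 2 * 3 + 1 from rfl, succ_nsmul, mul_nsmul, two_nsmul, ZModModule.add_self,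
      smul_zero, zero_add]
  let W : Finset V := Finset.univ.filter fun v => g v = v
  let K : Finset V := Finset.univ.filter fun v => p v = 0
  have hWK : W.card * K.card = 4096 := by
    rw [← Finset.card_product, show (4096 : ℕ) = (Finset.univ : Finset V).card by
      rw [Finset.card_univ, ← Fintype.card_congr e]; simp]
    refine Finset.card_bij (fun x _ => x.1 + x.2) (fun _ _ => Finset.mem_univ _) ?_ ?_
    · intro x hx y hy h
      simp only [Finset.mem_product, W, K, Finset.mem_filter, Finset.mem_univ, true_and] at hx hy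
      have h1 := congrArg p h
      rw [hpadd, hpadd, hx.2, hy.2, add_zero, add_zero, hpfix _ hx.1, hpfix _ hy.1] at h1
      exact Prod.ext h1 (add_left_cancel (h1 ▸ h : y.1 + x.2 = y.1 + y.2))
    · intro v _
      refine ⟨(p v, p v + v), ?_, by simp [← add_assoc, ZModModule.add_self]⟩
      simp only [Finset.mem_product, W, K, Finset.mem_filter, Finset.mem_univ, true_and]
      exact ⟨hgp v, by rw [hpadd, hpfix _ (hgp v)]; exact ZModModule.add_self _⟩
  have hK7 : K.card ≡ 1 [MOD 7] := by
    refine (card_modEq_fixed g hg7 K fun x hx => ?_).trans (congrArg (· % _) ?_)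
    · simp only [K, Finset.mem_filter, Finset.mem_univ, true_and] at hx ⊢
      rw [hpg, hx]
    · rw [Finset.card_eq_one]
      refine ⟨0, ?_⟩
      ext x
      simp only [K, Finset.mem_filter, Finset.mem_univ, true_and, Finset.mem_singleton]
      exact ⟨fun h => by rw [← hpfix x h.2, h.1], fun h => by subst h; simp [p]⟩
  have hnW : ∀ x, g x = x → g (n x) = n x := fun x hx => by
    show (g * n) x = _
    rw [hgn]; show n (g x) = _
    rw [hx]
  have hW3 : W.card ≡ 1 [MOD 3] := by
    refine (card_modEq_fixed n hn W fun x hx => ?_).trans (congrArg (· % _) ?_)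
    · simp only [W, Finset.mem_filter, Finset.mem_univ, true_and] at hx ⊢; exact hnW x hx
    · rw [Finset.card_eq_one]
      refine ⟨0, ?_⟩
      ext x
      simp only [W, Finset.mem_filter, Finset.mem_univ, true_and, Finset.mem_singleton]
      exact ⟨fun h => F.n_fix x h.2, fun h => by subst h; simp⟩
  have hfree : ∀ v, g v = v → q v = 0 → v = 0 := by
    obtain ⟨a, ha, hWa⟩ := (Nat.dvd_prime_pow Nat.prime_two).1
      (Dvd.intro K.card (hWK.trans (by norm_num : (4096 : ℕ) = 2 ^ 12)))
    have hKa : K.card = 2 ^ (12 - a) := by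
      refine Nat.eq_of_mul_eq_mul_left (show 0 < 2 ^ a by positivity) ?_
      rw [← pow_add, Nat.add_sub_cancel' ha, ← hWa, hWK]; norm_num
    rw [hKa] at hK7; rw [hWa] at hW3
    have hcases : a = 0 ∨ a = 6 ∨ a = 12 := by
      have key : ∀ a : Fin 13, 2 ^ a.val % 3 = 1 → 2 ^ (12 - a.val) % 7 = 1 →
          a.val = 0 ∨ a.val = 6 ∨ a.val = 12 := by decide
      exact key ⟨a, by omega⟩ hW3 hK7
    rcases hcases with rfl | rfl | rfl
    · intro v hv _
      obtain ⟨w, hw⟩ := Finset.card_eq_one.1 hWa
      have m : ∀ x, g x = x → x = w := fun x hx => Finset.mem_singleton.1 (hw ▸ (by simp [W, hx]))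
      rw [m v hv, ← m 0 (map_zero g)]
    · -- dimension six
      exfalso
      let Z : Finset V := S.filter fun v => g v = v
      have h7 : Z.card % 7 = 0 := by
        have := card_modEq_fixed g hg7 S (hSg g hgΓ)
        rw [hS, Nat.ModEq] at this
        show (S.filter _).card % 7 = 0
        omega
      have h3 : Z.card % 3 = 0 := by
        have h := card_modEq_fixed n hn Z fun x hx => by
          simp only [Z, Finset.mem_filter] at hx ⊢
          exact ⟨hSg n hnΓ x hx.1, hnW x hx.2⟩
        have hz : Z.filter (fun x => n x = x) = ∅ := by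
          refine Finset.filter_eq_empty_iff.2 fun x hx e => ?_
          have hxS : x ∈ S := (Finset.mem_filter.1 hx).1
          exact (Finset.mem_filter.1 hxS).2.1 (F.n_fix x e)
        rw [hz, Finset.card_empty, Nat.ModEq] at h
        exact h.trans (Nat.zero_mod _)
      let U : Submodule (ZMod 2) V := LinearMap.ker (g.toLinearMap - LinearMap.id)
      have hU : ∀ v, v ∈ U ↔ g v = v := fun v => by simp [U, sub_eq_zero]
      have hUcard : Nat.card U = 64 := by
        rw [Nat.card_eq_fintype_card, Fintype.card_of_subtype W (fun x => by simp [W, hU])]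
        exact hWa.trans (by norm_num)
      have hrank : Module.finrank (ZMod 2) U = 2 * 3 := by
        have h := Module.natCard_eq_pow_finrank (K := ZMod 2) (V := U)
        rw [hUcard, Nat.card_zmod] at h
        exact Nat.pow_right_injective le_rfl (h.symm.trans (by norm_num))
      let qU : QuadraticForm (ZMod 2) U := q.comp U.subtype
      have hpolar : ∀ x y : U, QuadraticMap.polar qU x y = QuadraticMap.polar q (x : V) y := fun x y => rfl
      have hself : ∀ v w, g w = w → QuadraticMap.polar q w (p v) = QuadraticMap.polar q w v := by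
        intro v w hw
        have hi : ∀ i : ℕ, QuadraticMap.polar q w ((g ^ i) v) = QuadraticMap.polar q w v := by
          intro i
          induction i with
          | zero => rfl
          | succ i ih =>
            rw [pow_succ', show (g * g ^ i) v = g ((g ^ i) v) from rfl, ← ih]
            conv_lhs => rw [← hw]
            unfold QuadraticMap.polar
            rw [← map_add, hΓ g hgΓ, hΓ g hgΓ, hΓ g hgΓ]
        simp only [p]
        rw [← QuadraticMap.polarBilin_apply_apply, map_sum]
        simp only [QuadraticMap.polarBilin_apply_apply, hi, Finset.sum_const, Finset.card_range]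
        rw [show (7 : ℕ) = 2 * 3 + 1 from rfl, succ_nsmul, mul_nsmul, two_nsmul, ZModModule.add_self,
          smul_zero, zero_add]
      have hqU : (QuadraticMap.polarBilin qU).Nondegenerate := by
        rw [Forms.nondegenerate_polarBilin_iff]
        intro x hx
        apply Subtype.ext
        refine hnd _ fun v => ?_
        rw [← hself v _ ((hU _).1 x.2)]
        exact hx ⟨p v, (hU _).2 (hgp v)⟩
      have hcnt : Nat.card {v : U // qU v = 0} = Z.card + 1 := by
        rw [← Forms.card_ne_zero_zeros qU, Nat.card_eq_fintype_card]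
        congr 1
        rw [← Fintype.card_coe]
        exact Fintype.card_congr
          { toFun := fun v => ⟨v.1.1, by
              simp only [Z, S, Finset.mem_filter, Finset.mem_univ, true_and]
              exact ⟨⟨fun h => v.2.1 (Subtype.ext h), v.2.2⟩, (hU _).1 v.1.2⟩⟩
            invFun := fun v => ⟨⟨v.1, (hU _).2 (Finset.mem_filter.1 v.2).2⟩, by
              have := (Finset.mem_filter.1 (Finset.mem_filter.1 v.2).1).2
              exact ⟨fun h => this.1 (congrArg Subtype.val h), this.2⟩⟩
            left_inv := fun _ => rfl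
            right_inv := fun _ => rfl }
      rcases Forms.zeros_iff_plus qU hqU (m := 3) (by norm_num) hrank with ⟨-, h⟩ | ⟨-, h⟩ <;>
        rw [hcnt] at h <;> norm_num at h <;> omega
    · exfalso
      apply hg1
      refine LinearEquiv.ext fun v => ?_
      have hWu : W = Finset.univ := by
        refine Finset.eq_univ_of_card _ ?_
        rw [hWa, ← Fintype.card_congr e]; simp
      exact (Finset.mem_filter.1 (hWu ▸ Finset.mem_univ v : v ∈ W)).2
  -- orbits
  let O : Code → Finset Code := fun a => Finset.univ.filter fun b => F.Rel a b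
  have hO : ∀ {a b}, b ∈ O a ↔ F.Rel a b := fun {a b} => by simp [O]
  let bits : Code → Fin 5 → Bool := fun a i => decide (∃ b, F.Rel a b ∧ cls b = some i)
  have hbits : ∀ {a i}, bits a i = true ↔ ∃ b, F.Rel a b ∧ cls b = some i := fun {a i} => by simp [bits]
  have horbit : ∀ a, (cls a).isSome = true →
      O a = (Finset.univ.filter fun i => bits a i = true).biUnion Cl := by
    intro a ha
    ext b
    simp only [hO, Finset.mem_biUnion, Finset.mem_filter, Finset.mem_univ, true_and, hbits, Cl]
    constructor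
    · intro h
      have : (cls b).isSome = true := by
        rw [← F.singular_iff] at ha ⊢
        obtain ⟨γ, hγ, e⟩ := h
        rw [← e]
        exact ⟨fun h => ha.1 (γ.injective (h.trans (map_zero γ).symm)), (hΓ γ hγ _).trans ha.2⟩
      obtain ⟨i, hi⟩ := Option.isSome_iff_exists.1 this
      exact ⟨i, ⟨b, h, hi⟩, hi⟩
    · rintro ⟨i, ⟨c, hc, hci⟩, hbi⟩
      exact F.rel_trans hc (F.rel_of_cls hci hbi)
  have hseven : ∀ a, (cls a).isSome = true → (∑ i, if bits a i = true then size i else 0) % 7 = 0 := by
    intro a ha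
    rw [← hsum, ← horbit a ha, ← Finset.card_map e.toEmbedding]
    have hstab : ∀ x ∈ (O a).map e.toEmbedding, g x ∈ (O a).map e.toEmbedding := by
      intro x hx
      obtain ⟨b, hb, rfl⟩ := Finset.mem_map.1 hx
      obtain ⟨c, hc⟩ := F.bij.2 (g (F.psi b))
      exact Finset.mem_map.2 ⟨c, hO.2 (F.rel_trans (hO.1 hb) ⟨g, hgΓ, hc.symm⟩), hc⟩
    have h := card_modEq_fixed g hg7 _ hstab
    rw [Finset.card_eq_zero.2 (Finset.filter_eq_empty_iff.2 fun x hx hgx => by
      obtain ⟨b, hb, rfl⟩ := Finset.mem_map.1 hx
      have hs : (cls b).isSome = true := by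
        rw [horbit a ha] at hb
        obtain ⟨i, -, hi⟩ := Finset.mem_biUnion.1 hb
        simp [(Finset.mem_filter.1 hi).2]
      have := (F.singular_iff b).2 hs
      exact this.1 (hfree _ hgx this.2))] at h
    exact h
  have hrep : ∀ i, ∃ a, cls a = some i := fun i => by
    have h := hCl i
    have : 0 < (Cl i).card := by rw [h]; fin_cases i <;> simp [size]
    obtain ⟨a, ha⟩ := Finset.card_pos.1 this
    exact ⟨a, (Finset.mem_filter.1 ha).2⟩
  have hindex : ∀ a, (MulAction.stabilizer Γ (F.psi a)).index = ((O a).map e.toEmbedding).card := by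
    intro a
    have h := MulAction.index_stabilizer Γ (F.psi a)
    have he : MulAction.orbit Γ (F.psi a) = ↑((O a).map e.toEmbedding) := by
      ext x
      obtain ⟨b, rfl⟩ := F.bij.2 x
      simp only [MulAction.mem_orbit_iff, Finset.coe_map, Set.mem_image, Finset.mem_coe, hO]
      constructor
      · rintro ⟨γ, hγ⟩; exact ⟨b, ⟨γ.1, γ.2, hγ⟩, rfl⟩
      · rintro ⟨c, ⟨γ, hγ, hc⟩, hcb⟩
        exact ⟨⟨γ, hγ⟩, hc.trans hcb⟩
    rwa [he, Set.ncard_coe_finset] at h
  obtain ⟨a, ha⟩ := hrep 0
  have has : (cls a).isSome = true := by simp [ha]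
  obtain ⟨i, hi⟩ : ∃ i, bits a i ≠ true := by
    by_contra! hall
    have hc : ((O a).map e.toEmbedding).card = 2079 := by
      rw [Finset.card_map, horbit a has, hsum, Finset.sum_congr rfl fun i _ => if_pos (hall i)]
      simp [size, Fin.sum_univ_five]
    have hd : ((O a).map e.toEmbedding).card ∣ Nat.card Γ := hindex a ▸ Subgroup.index_dvd_card _
    rw [hc, hcard] at hd
    norm_num at hd
  obtain ⟨a', ha'⟩ := hrep i
  have has' : (cls a').isSome = true := by simp [ha']
  have hne : ¬ F.Rel a a' := fun h => hi (hbits.2 ⟨a', h, ha'⟩)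
  obtain ⟨r, hr⟩ := classes (bits a) (bits a') (hseven a has) (hseven a' has')
    (hbits.2 ⟨a, F.rel_refl a, ha⟩)
    (fun j ⟨h1, h2⟩ => by
      obtain ⟨b, hb, hbj⟩ := hbits.1 h1
      obtain ⟨c, hc, hcj⟩ := hbits.1 h2
      exact hne (F.rel_trans hb (F.rel_trans (F.rel_of_cls hbj hcj) (F.rel_symm hc))))
    ⟨i, hbits.2 ⟨a', F.rel_refl a', ha'⟩⟩
  -- every code of a class lies in the orbit named by the side
  have hrel : ∀ x j, cls x = some j → (side r (some j) = true → F.Rel a x) ∧ (side r (some j) = false → F.Rel a' x) := by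
    intro x j hx
    refine ⟨fun h => ?_, fun h => ?_⟩
    · obtain ⟨y, hy, hyj⟩ := hbits.1 ((hr j).1.2 h)
      exact F.rel_trans hy (F.rel_of_cls hyj hx)
    · obtain ⟨y, hy, hyj⟩ := hbits.1 ((hr j).2.2 h)
      exact F.rel_trans hy (F.rel_of_cls hyj hx)
  refine ⟨r, fun x y hx hy => ?_, fun x hx => ?_⟩
  · obtain ⟨i, hi⟩ := Option.isSome_iff_exists.1 hx
    obtain ⟨j, hj⟩ := Option.isSome_iff_exists.1 hy
    rw [hi, hj]
    obtain ⟨x1, x2⟩ := hrel x i hi
    obtain ⟨y1, y2⟩ := hrel y j hj
    cases hsi : side r (some i) <;> cases hsj : side r (some j)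
    · exact iff_of_true (F.rel_trans (F.rel_symm (x2 hsi)) (y2 hsj)) rfl
    · refine iff_of_false (fun h => hne ?_) (by simp)
      exact F.rel_trans (y1 hsj) (F.rel_trans (F.rel_symm h) (F.rel_symm (x2 hsi)))
    · refine iff_of_false (fun h => hne ?_) (by simp)
      exact F.rel_trans (x1 hsi) (F.rel_trans h (F.rel_symm (y2 hsj)))
    · exact iff_of_true (F.rel_trans (F.rel_symm (x1 hsi)) (y1 hsj)) rfl
  · obtain ⟨i, hi⟩ := Option.isSome_iff_exists.1 hx
    have h := (MulAction.stabilizer Γ (F.psi x)).card_mul_index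
    rw [hindex, Finset.card_map, horbit x hx, hsum, hcard] at h
    obtain ⟨x1, x2⟩ := hrel x i hi
    have hb : ∀ j, (bits x j = true ↔ side r (some j) = side r (cls x)) := by
      intro j
      rw [hbits, hi]
      cases hs : side r (some i)
      · rw [← (hr j).2, hbits]
        exact ⟨fun ⟨y, hy, hyj⟩ => ⟨y, F.rel_trans (x2 hs) hy, hyj⟩,
          fun ⟨y, hy, hyj⟩ => ⟨y, F.rel_trans (F.rel_symm (x2 hs)) hy, hyj⟩⟩
      · rw [← (hr j).1, hbits]
        exact ⟨fun ⟨y, hy, hyj⟩ => ⟨y, F.rel_trans (x1 hs) hy, hyj⟩,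
          fun ⟨y, hy, hyj⟩ => ⟨y, F.rel_trans (F.rel_symm (x1 hs)) hy, hyj⟩⟩
    rw [Finset.sum_congr rfl fun j _ => (if_congr (hb j) rfl rfl : (if bits x j = true then size j else 0) = _)] at h
    obtain ⟨s1, s2, -, -⟩ := side_sizes r
    cases hs : side r (cls x) <;> rw [hs] at h
    · rw [show (∑ j, if side r (some j) = false then size j else 0) = 1701 from s2] at h
      simp only [Bool.false_eq_true, if_false]
      omega
    · rw [show (∑ j, if side r (some j) = true then size j else 0) = 378 from s1] at h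
      simp only [if_true]
      omega

end Cfsg.Agent.Fi24ByInvol
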