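/-
Coordinates for the group of order 9797760 induced by `K`, and its normaliser.

* `Co`, `exists_co`, `Co.mem_autGroup`
-/
import Cfsg.Agent.Lib.Fi24ByInvol.Orbits
import Cfsg.Agent.Lib.LargeFischer.Extension
import Cfsg.Agent.Lib.LargeFischer.OfType
import Cfsg.Agent.Lib.Unitary.Simple

set_option autoImplicit false
set_option maxRecDepth 100000

namespace Cfsg.Agent.Fi24ByInvol

open LargeFischer Cfsg.Agent.MultiplierUFourThree

variable {V : Type*} [AddCommGroup V] [Module (ZMod 2) V] {q : QuadraticForm (ZMod 2) V}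

/-- Coordinates in which the small orbit of `Γ₀` is the standard one. -/
structure Co (q : QuadraticForm (ZMod 2) V) (Γ₀ : Subgroup (V ≃ₗ[ZMod 2] V)) (n : V ≃ₗ[ZMod 2] V) where
  /-- The coordinates. -/
  M : Model q n
  card : Nat.card Γ₀ = 9797760
  n_mem : n ∈ Γ₀
  n3 : n ^ 3 = 1
  n_fix : ∀ v, n v = v → v = 0
  hq : ∀ γ ∈ Γ₀, ∀ v, q (γ v) = q v
  stab : ∀ x < 4096, x ≠ 0 → qn x = 0 →
    Nat.card (MulAction.stabilizer Γ₀ (M.e x)) = if inSmall 0 x then 25920 else 5760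
  trans : ∀ a < 4096, ∀ b < 4096, inSmall 0 a = true → inSmall 0 b = true → ∃ γ ∈ Γ₀, γ (M.e a) = M.e b
  cent : ∀ γ ∈ Γ₀, γ * n * γ⁻¹ = n

theorem small_singular : ((List.range 4096).all fun x => !inSmall 0 x || (Nat.beq (qn x) 0 && !Nat.beq x 0)) = true := by
  decide +kernel

theorem small_spec {x : ℕ} (hx : x < 4096) (hs : inSmall 0 x = true) : qn x = 0 ∧ x ≠ 0 := by
  have h := List.all_eq_true.1 small_singular x (List.mem_range.2 hx)
  rw [hs] at h
  simp only [Bool.not_true, Bool.false_or, Bool.and_eq_true, Nat.beq_eq, Bool.not_eq_true'] at h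
  exact ⟨h.1, fun e => by rw [e] at h; exact Bool.noConfusion h.2⟩

variable [Finite V]

/-- Conjugation preserves the orders of stabilisers. -/
theorem card_stab_map {Γ₀ : Subgroup (V ≃ₗ[ZMod 2] V)} (γ : V ≃ₗ[ZMod 2] V)
    (hΓ : ∀ g, g ∈ Γ₀ ↔ γ * g * γ⁻¹ ∈ Γ₀) (v : V) :
    Nat.card (MulAction.stabilizer Γ₀ (γ v)) = Nat.card (MulAction.stabilizer Γ₀ v) := by
  refine (Nat.card_congr ?_).symm
  exact
    { toFun := fun g => ⟨⟨γ * g.1.1 * γ⁻¹, (hΓ _).1 g.1.2⟩, by
        show γ (g.1.1 (γ⁻¹ (γ v))) = γ v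
        rw [show γ⁻¹ (γ v) = v from γ.symm_apply_apply v]
        exact congrArg γ g.2⟩
      invFun := fun g => ⟨⟨γ⁻¹ * g.1.1 * γ, (hΓ _).2 (by
          rw [show γ * (γ⁻¹ * g.1.1 * γ) * γ⁻¹ = g.1.1 by group]; exact g.1.2)⟩, by
        show γ⁻¹ (g.1.1 (γ v)) = v
        rw [show g.1.1 (γ v) = γ v from g.2]
        exact γ.symm_apply_apply v⟩
      left_inv := fun g => by apply Subtype.ext; apply Subtype.ext; simp only; group
      right_inv := fun g => by apply Subtype.ext; apply Subtype.ext; simp only; group }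

namespace Co

variable {Γ₀ : Subgroup (V ≃ₗ[ZMod 2] V)} {n : V ≃ₗ[ZMod 2] V} (C : Co q Γ₀ n)
include C

/-- What normalises `n` and `Γ₀` and preserves the form preserves the coordinates. -/
theorem mem_autGroup {γ : V ≃ₗ[ZMod 2] V} (hqγ : ∀ v, q (γ v) = q v)
    (hn : γ * n * γ⁻¹ ∈ Subgroup.zpowers n) (hΓ : ∀ g, g ∈ Γ₀ ↔ γ * g * γ⁻¹ ∈ Γ₀) : γ ∈ autGroup C.M := by
  set M := C.M
  obtain ⟨k, hk⟩ := Subgroup.mem_zpowers_iff.1 hn
  obtain ⟨s, hs3, hs⟩ : ∃ s : ℕ, s < 3 ∧ γ * n * γ⁻¹ = n ^ s := by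
    refine ⟨(k % 3).toNat, by omega, ?_⟩
    rw [← hk, ← zpow_natCast n ((k % 3).toNat), Int.toNat_of_nonneg (by omega)]
    exact zpow_eq_zpow_emod k C.n3
  have hs0 : s ≠ 0 := by
    intro e
    rw [e, pow_zero, conj_eq_one_iff] at hs
    have h15 : M.e 15 ≠ M.e 0 := fun h => by
      have := M.inj 15 (by norm_num) 0 (by norm_num) h
      norm_num at this
    apply h15
    rw [M.zero]
    exact C.n_fix _ (LinearEquiv.congr_fun hs (M.e 15))
  have hγn : ∀ v, γ (n v) = (n ^ s) (γ v) := fun v => by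
    rw [← hs]
    show γ (n v) = γ (n (γ.symm (γ v)))
    rw [γ.symm_apply_apply]
  have hqn : ∀ x < 4096, qn (numMap M γ x) = qn x := fun x hx => by
    obtain ⟨a1, a2⟩ := numMap_spec M γ x
    refine cast_inj_two (qn_lt _) (qn_lt _) ?_
    rw [← M.q_e _ a1, a2, hqγ, M.q_e x hx]
  have hzero : ∀ x < 4096, numMap M γ x = 0 → x = 0 := fun x hx e => by
    obtain ⟨-, a2⟩ := numMap_spec M γ x
    rw [e, M.zero] at a2
    exact M.inj x hx 0 (by norm_num) ((γ.map_eq_zero_iff.1 a2.symm).trans M.zero.symm)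
  have hsmall : ∀ x < 4096, inSmall 0 (numMap M γ x) = inSmall 0 x := by
    intro x hx
    obtain ⟨a1, a2⟩ := numMap_spec M γ x
    by_cases hs : x ≠ 0 ∧ qn x = 0
    · have h1 := C.stab x hx hs.1 hs.2
      have h2 := C.stab _ a1 (fun e => hs.1 (hzero x hx e)) ((hqn x hx).trans hs.2)
      rw [show M.e (numMap M γ x) = γ (M.e x) from a2, card_stab_map γ hΓ, h1] at h2
      cases e1 : inSmall 0 x <;> cases e2 : inSmall 0 (numMap M γ x) <;> simp [e1, e2] at h2 ⊢
    · cases e1 : inSmall 0 x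
      · cases e2 : inSmall 0 (numMap M γ x)
        · rfl
        · exfalso
          obtain ⟨h1, h2⟩ := small_spec a1 e2
          refine hs ⟨fun e => h2 ?_, (hqn x hx).symm.trans h1⟩
          apply M.inj _ a1 0 (by norm_num)
          rw [a2, e, M.zero, map_zero]
      · exact absurd ⟨(small_spec hx e1).2, (small_spec hx e1).1⟩ hs
  refine LargeFischer.mem_autGroup.2 ⟨{
    f := numMap M γ
    lt := fun x _ => (numMap_spec M γ x).1
    inj := fun x hx y hy h => by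
      refine M.inj x hx y hy (γ.injective ?_)
      rw [← (numMap_spec M γ x).2, ← (numMap_spec M γ y).2, h]
    add := fun x hx y hy => by
      obtain ⟨a1, a2⟩ := numMap_spec M γ x
      obtain ⟨b1, b2⟩ := numMap_spec M γ y
      refine M.inj _ (numMap_spec M γ _).1 _ (xor_lt_pow a1 b1) ?_
      rw [(numMap_spec M γ _).2, M.add x hx y hy, map_add, M.add _ a1 _ b1, a2, b2]
    qn_f := hqn
    small := hsmall
    twist := ⟨s, by omega, fun x hx => by
      obtain ⟨a1, a2⟩ := numMap_spec M γ x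
      refine M.inj _ (numMap_spec M γ _).1 _ (npow_lt a1 s) ?_
      rw [(numMap_spec M γ _).2, e_npow M a1 s, a2, ← M.n_e x hx, hγn]⟩ }, fun x _ => (numMap_spec M γ x).2⟩

theorem le_autGroup : Γ₀ ≤ autGroup C.M := fun γ hγ =>
  C.mem_autGroup (C.hq γ hγ) (by rw [C.cent γ hγ]; exact Subgroup.mem_zpowers n) fun g =>
    ⟨fun h => mul_mem (mul_mem hγ h) (inv_mem hγ), fun h => by
      have := mul_mem (mul_mem (inv_mem hγ) h) hγ
      rwa [show γ⁻¹ * (γ * g * γ⁻¹) * γ = g by group] at this⟩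

end Co

set_option maxHeartbeats 1000000 in
/-- Coordinates exist. -/
theorem exists_co {F : Type} [Field F] [Fintype F] (hF : Fintype.card F = 3 ^ 2) (Γ₀ : Subgroup (V ≃ₗ[ZMod 2] V))
    (π : Γ₀ →* PU F) (hπ : Function.Surjective π) (n : Γ₀) (hno : orderOf n = 3)
    (hker : ∀ m, π m = 1 ↔ m ∈ Subgroup.zpowers n) (hq : ∀ m ∈ Γ₀, ∀ v, q (m v) = q v)
    (hcard : Nat.card V = 4096) (hnd : ∀ v, (∀ w, QuadraticMap.polar q v w = 0) → v = 0) :
    Nonempty (Co q Γ₀ n.1) := by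
  classical
  have hn3 : n ^ 3 = 1 := by rw [← hno, pow_orderOf_eq_one]
  have hn1 : n ≠ 1 := fun h => by rw [h, orderOf_one] at hno; norm_num at hno
  obtain ⟨S, g, hT, hgx, hgy, hSn, hg, hg7, hg1, hgn⟩ := exists_setup (q := q) hF Γ₀ π hπ n hn3 hn1 hker hq hcard hnd
  obtain ⟨Fr⟩ : Nonempty (Frame q Γ₀ n.1) := by rw [← hSn]; exact S.exists_frame _ hT hgx hgy
  have hkz : π.ker = Subgroup.zpowers n := by ext m; rw [MonoidHom.mem_ker]; exact hker m
  have hcΓ : Nat.card Γ₀ = 9797760 := by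
    have h := Subgroup.card_eq_card_quotient_mul_card_subgroup π.ker
    rw [Nat.card_congr (QuotientGroup.quotientKerEquivOfSurjective π hπ).toEquiv, natCard_PU hF, hkz,
      Nat.card_zpowers, hno] at h
    exact h
  have hn3' : n.1 ^ 3 = 1 := congrArg Subtype.val hn3
  -- n is central
  have hnn : Subgroup.zpowers n ≤ Subgroup.center Γ₀ := by
    haveI : (Subgroup.zpowers n).Normal := hkz ▸ inferInstance
    haveI : Finite Γ₀ := Nat.finite_of_card_ne_zero (by rw [hcΓ]; norm_num)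
    haveI hsimp : IsSimpleGroup (PU F) := by
      obtain ⟨e⟩ := StabCert.nonempty_range_permHom (n := 4) (p := 3) hF (by norm_num)
      haveI := Unitary.isSimpleGroup_PSU (n := 4) hF (Or.inl le_rfl)
      exact e.isSimpleGroup_congr.2 inferInstance
    let C0 := Subgroup.centralizer ({n} : Set Γ₀)
    have hCn : C0.Normal := by
      refine ⟨fun x hx y => ?_⟩
      obtain ⟨k, hk⟩ := Subgroup.mem_zpowers_iff.1
        ((inferInstance : (Subgroup.zpowers n).Normal).conj_mem n (Subgroup.mem_zpowers n) y⁻¹)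
      have hc : Commute x (y⁻¹ * n * y) := by
        rw [inv_inv] at hk
        rw [← hk]
        exact (Subgroup.mem_centralizer_singleton_iff.1 hx : x * n = n * x) |> fun h => Commute.zpow_right h k
      refine Subgroup.mem_centralizer_singleton_iff.2 ?_
      calc y * x * y⁻¹ * n = y * (x * (y⁻¹ * n * y)) * y⁻¹ := by group
        _ = y * ((y⁻¹ * n * y) * x) * y⁻¹ := by rw [hc.eq]
        _ = n * (y * x * y⁻¹) := by group
    rcases hsimp.eq_bot_or_eq_top_of_normal (C0.map π) (hCn.map π hπ) with h | h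
    · exfalso
      -- the element of order seven commutes with n
      have hgC : (⟨g, hg⟩ : Γ₀) ∈ C0 := Subgroup.mem_centralizer_singleton_iff.2 (Subtype.ext hgn)
      have h1 : π ⟨g, hg⟩ = 1 := Subgroup.mem_bot.1 (h ▸ Subgroup.mem_map_of_mem π hgC)
      obtain ⟨k, hk⟩ := Subgroup.mem_zpowers_iff.1 ((hker _).1 h1)
      have h3 : g ^ 3 = 1 := by
        have e : (⟨g, hg⟩ : Γ₀) ^ 3 = 1 := by rw [← hk, ← zpow_natCast, zpow_comm, zpow_natCast, hn3, one_zpow]
        exact congrArg Subtype.val e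
      exact hg1 (by
        calc g = g ^ 7 * ((g ^ 3) ^ 2)⁻¹ := by group
          _ = 1 := by rw [hg7, h3]; simp)
    · intro x hx
      refine Subgroup.mem_center_iff.2 fun y => ?_
      have hy : y ∈ C0 := by
        obtain ⟨c, hc, he⟩ := (h ▸ Subgroup.mem_top (π y) : π y ∈ C0.map π)
        have hm : c⁻¹ * y ∈ Subgroup.zpowers n := (hker _).1 (by rw [map_mul, map_inv, he, inv_mul_cancel])
        obtain ⟨k, hk⟩ := Subgroup.mem_zpowers_iff.1 hm
        have hmem : c⁻¹ * y ∈ C0 := by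
          rw [← hk]; exact zpow_mem (Subgroup.mem_centralizer_singleton_iff.2 rfl) k
        simpa using mul_mem hc hmem
      obtain ⟨k, rfl⟩ := Subgroup.mem_zpowers_iff.1 hx
      exact (Commute.zpow_right (Subgroup.mem_centralizer_singleton_iff.1 hy : y * n = n * y) k).eq
  have hcent : ∀ γ ∈ Γ₀, γ * n.1 * γ⁻¹ = n.1 := fun γ hγ => by
    have h := congrArg Subtype.val (Subgroup.mem_center_iff.1 (hnn (Subgroup.mem_zpowers n)) ⟨γ, hγ⟩)
    exact mul_inv_eq_iff_eq_mul.2 h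
  obtain ⟨r, hrel, hst⟩ := orbit_structure Fr hnd hq hcΓ n.2 hn3' hg hg7 hg1 hgn
  set M₀ := Fr.toModel with hM₀
  set r' : Fin 3 := ⟨(3 - r.val) % 3, Nat.mod_lt _ (by norm_num)⟩
  have hrr : (3 - r'.val) % 3 = r.val := by
    have : ∀ r : Fin 3, (3 - (3 - r.val) % 3) % 3 = r.val := by decide
    exact this r
  have hlt : ∀ {x}, x < 4096 → sh r.val x < 4096 := fun hx => (sh_spec r hx).1
  have hlt' : ∀ {x}, x < 4096 → sh r'.val x < 4096 := fun hx => (sh_spec r' hx).1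
  have hl : ∀ {x}, x < 4096 → sh r.val (sh r'.val x) = x := fun {x} hx => by
    have := (sh_spec r' hx).2.2.2.1
    rwa [hrr] at this
  have hl' : ∀ {x}, x < 4096 → sh r'.val (sh r.val x) = x := fun hx => (sh_spec r hx).2.2.2.1
  let M : Model q n.1 := {
      e := fun x => M₀.e (sh r.val x)
      inj := fun x hx y hy h => by rw [← hl' hx, ← hl' hy, M₀.inj _ (hlt hx) _ (hlt hy) h]
      surj := fun v => by
        obtain ⟨x, hx, rfl⟩ := M₀.surj v
        exact ⟨sh r'.val x, hlt' hx, by rw [hl hx]⟩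
      zero := by
        have : ∀ r : Fin 3, sh r.val 0 = 0 := by decide
        rw [this r, M₀.zero]
      add := fun x hx y hy => by rw [sh_add, M₀.add _ (hlt hx) _ (hlt hy)]
      q_e := fun x hx => by rw [M₀.q_e _ (hlt hx), (sh_spec r hx).2.1]
      n_e := fun x hx => by rw [M₀.n_e _ (hlt hx), (sh_spec r hx).2.2.1] }
  have hsome : ∀ {x}, (hx : x < 4096) → x ≠ 0 → qn x = 0 →
      (cls (digits ⟨_, hlt hx⟩)).isSome = true ∧ side r (cls (digits ⟨_, hlt hx⟩)) = inSmall 0 x ∧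
        M.e x = Fr.psi (digits ⟨_, hlt hx⟩) := by
    intro x hx hx0 hqx
    have e : M.e x = Fr.psi (digits ⟨_, hlt hx⟩) := Fr.toModel_e ⟨_, hlt hx⟩
    refine ⟨(Fr.singular_iff _).1 ⟨?_, ?_⟩, (inSmall_side ⟨_, hlt hx⟩ r).trans (sh_spec r hx).2.2.2.2, e⟩
    · rw [← e]; exact fun h => hx0 (M.inj x hx 0 (by norm_num) (h.trans M.zero.symm))
    · rw [← e, M.q_e x hx, hqx, Nat.cast_zero]
  refine ⟨⟨M, hcΓ, n.2, hn3', Fr.n_fix, hq, fun x hx hx0 hqx => ?_, fun a ha b hb hsa hsb => ?_, hcent⟩⟩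
  · obtain ⟨h1, h2, h3⟩ := hsome hx hx0 hqx
    rw [h3, hst _ h1, h2]
  · obtain ⟨a1, a2, a3⟩ := hsome ha (small_spec ha hsa).2 (small_spec ha hsa).1
    obtain ⟨b1, b2, b3⟩ := hsome hb (small_spec hb hsb).2 (small_spec hb hsb).1
    rw [a3, b3]
    exact (hrel _ _ a1 b1).2 (by rw [a2, b2, hsa, hsb])

end Cfsg.Agent.Fi24ByInvol
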