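/-
The facts about the group of order 9797760 read from the explicit 2-group.

* `Co.exists_tr`, `Co.not_tr`, `Co.lin_index`, `Co.facts`
-/
import Cfsg.Agent.Lib.Fi24ByInvol.Base
import Cfsg.Agent.Lib.Fi24ByInvol.Coords
import Cfsg.Agent.Lib.Fi24ByInvol.Certs
import Mathlib.GroupTheory.Sylow

set_option autoImplicit false
set_option maxRecDepth 100000

namespace Cfsg.Agent.Fi24ByInvol

open LargeFischer

theorem t0_ok : ((List.range 12).all fun b => Nat.beq (fe 63 (nmul (2 ^ b))) (nmul (fe 63 (2 ^ b)))) = true ∧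
    mulIdx 63 63 = 0 ∧ inSmall 0 15 = true ∧ inSmall 0 3771 = true := by decide +kernel

universe u

variable {V : Type u} [AddCommGroup V] [Module (ZMod 2) V] [Finite V] {q : QuadraticForm (ZMod 2) V}
  {n : V ≃ₗ[ZMod 2] V}

/-- The transvection at a vector. -/
def IsTr (M : Model q n) (g : V ≃ₗ[ZMod 2] V) (a : ℕ) : Prop := ∀ x < 4096, g (M.e x) = M.e (tr a x)

theorem IsTr.unique {M : Model q n} {g g' : V ≃ₗ[ZMod 2] V} {a : ℕ} (h : IsTr M g a) (h' : IsTr M g' a) : g = g' :=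
  LinearEquiv.ext fun v => by obtain ⟨x, hx, rfl⟩ := M.surj v; rw [h x hx, h' x hx]

theorem rep_of_bits (M : Model q n) {g : V ≃ₗ[ZMod 2] V} {i : ℕ} (h : ∀ b < 12, g (M.e (2 ^ b)) = M.e (fe i (2 ^ b))) :
    Rep M g i := by
  intro x hx
  obtain ⟨y, hy, e⟩ := M.surj (g (M.e x))
  have key : ∀ x < 4096, numMap M g x = fe i x := by
    refine ext_two (fun x hx y hy => ?_) (fun x _ y _ => fe_add _ x y) fun b hb => ?_
    · refine M.inj _ (numMap_spec M g _).1 _ (xor_lt_pow (numMap_spec M g x).1 (numMap_spec M g y).1) ?_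
      rw [M.add _ (numMap_spec M g x).1 _ (numMap_spec M g y).1, (numMap_spec M g _).2, (numMap_spec M g x).2,
        (numMap_spec M g y).2, M.add x hx y hy, map_add]
    · exact M.inj _ (numMap_spec M g _).1 _ (fe_lt _ _) ((numMap_spec M g _).2.trans (h b hb))
  rw [← key x hx, (numMap_spec M g x).2]

namespace Co

variable {Γ₀ : Subgroup (V ≃ₗ[ZMod 2] V)} (C : Co q Γ₀ n)
include C

/-- The transvection at 3771. -/
theorem exists_t0 : ∃ g ∈ autGroup C.M, g * n = n * g ∧ g * g = 1 ∧ IsTr C.M g 3771 ∧ Rep C.M g 63 := by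
  obtain ⟨g, hg⟩ := exists_rep C.M (show 63 < 512 by norm_num)
  refine ⟨g, sylGroup_le C.M ⟨63, by norm_num, hg⟩, ?_, (hg.mul (by norm_num) (by norm_num) hg).eq_map
    (by rw [t0_ok.2.1]; exact Rep.one), fun x hx => ?_, hg⟩
  · refine LinearEquiv.ext fun v => ?_
    obtain ⟨x, hx, rfl⟩ := C.M.surj v
    show g (n (C.M.e x)) = n (g (C.M.e x))
    rw [C.M.n_e x hx, hg x hx, C.M.n_e _ (fe_lt _ _), hg _ (nmul_lt' hx)]
    refine congrArg C.M.e (ext_two (f := fun x => fe 63 (nmul x)) (g := fun x => nmul (fe 63 x)) ?_ ?_ (fun b hb => ?_) x hx)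
    · intro x hx y hy; show _ = _ ^^^ _; rw [nmul_xor C.M hx hy, fe_add]
    · intro x hx y hy; show _ = _ ^^^ _; rw [fe_add, nmul_xor C.M (fe_lt _ _) (fe_lt _ _)]
    · exact Nat.eq_of_beq_eq_true (List.all_eq_true.1 t0_ok.1 b (List.mem_range.2 hb))
  · rw [hg x hx]
    refine congrArg C.M.e (ext_two (fun x _ y _ => fe_add _ x y) (fun x hx y hy => C.M.tr_add (by norm_num) hx hy)
      (fun b hb => ?_) x hx)
    have h := tr_ok
    simp only [Bool.and_eq_true, List.all_eq_true, List.mem_range, Nat.beq_eq] at h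
    exact h.2 b hb

theorem conj_tr {γ g : V ≃ₗ[ZMod 2] V} (hγ : γ ∈ autGroup C.M) {a : ℕ} (ha : a < 4096) (hg : IsTr C.M g a) :
    ∀ b < 4096, C.M.e b = γ (C.M.e a) → IsTr C.M (γ * g * γ⁻¹) b := by
  intro b hb hbe x hx
  obtain ⟨A, hA⟩ := LargeFischer.mem_autGroup.1 hγ
  obtain ⟨y, hy, hye⟩ := C.M.surj (γ.symm (C.M.e x))
  have hfa : A.f a = b := C.M.inj _ (A.lt a ha) b hb ((hA a ha).trans hbe.symm)
  have hfy : A.f y = x := C.M.inj _ (A.lt y hy) x hx ((hA y hy).trans (by rw [hye, γ.apply_symm_apply]))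
  show γ (g (γ.symm (C.M.e x))) = _
  rw [← hye, hg y hy, ← hA _ (C.M.e_tr ha hy).1, A.map_tr C.M ha hy, hfa, hfy]

/-- Transvections at the small orbit. -/
theorem exists_tr {a : ℕ} (ha : a < 4096) (hs : inSmall 0 a = true) :
    ∃ g ∈ autGroup C.M, g * n = n * g ∧ g * g = 1 ∧ IsTr C.M g a := by
  obtain ⟨t, htA, htn, ht2, htr, -⟩ := C.exists_t0
  obtain ⟨γ, hγ, he⟩ := C.trans 3771 (by norm_num) a ha t0_ok.2.2.2 hs
  have hγA := C.le_autGroup hγ
  have hγn : γ * n = n * γ := mul_inv_eq_iff_eq_mul.1 (C.cent γ hγ)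
  refine ⟨γ * t * γ⁻¹, mul_mem (mul_mem hγA htA) (inv_mem hγA), ?_, ?_, C.conj_tr hγA (by norm_num) htr a ha he.symm⟩
  · exact (((Commute.mul_left (show Commute γ n from hγn) (show Commute t n from htn))).mul_left
      (show Commute γ n from hγn).inv_left).eq
  · calc γ * t * γ⁻¹ * (γ * t * γ⁻¹) = γ * (t * t) * γ⁻¹ := by group
      _ = 1 := by rw [ht2, mul_one, mul_inv_cancel]

theorem gen_rep {p : ℕ × ℕ × ℕ} (hp : p ∈ uGens) {g h : V ≃ₗ[ZMod 2] V} (hg : IsTr C.M g p.2.1)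
    (hh : IsTr C.M h p.2.2) : Rep C.M (g * h) p.1 := by
  have hok := List.all_eq_true.1 gens_ok p hp
  simp only [Bool.and_eq_true, decide_eq_true_eq, List.all_eq_true, List.mem_range, Nat.beq_eq] at hok
  obtain ⟨⟨⟨⟨⟨-, ha⟩, hb⟩, -⟩, -⟩, hbits⟩ := hok
  refine rep_of_bits C.M fun b hb12 => ?_
  have h2 : (2 : ℕ) ^ b < 4096 := (Nat.pow_lt_pow_iff_right (a := 2) (by norm_num)).2 hb12
  show g (h (C.M.e (2 ^ b))) = _
  rw [hh _ h2, hg _ (C.M.e_tr hb h2).1, hbits b hb12]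

/-- With products of pairs of transvections, every element of the list is in `X`. -/
theorem uAt_mem (X : Subgroup (V ≃ₗ[ZMod 2] V))
    (hX : ∀ a < 4096, ∀ b < 4096, inSmall 0 a = true → inSmall 0 b = true →
      ∀ g h, IsTr C.M g a → IsTr C.M h b → g * h ∈ X) {k : ℕ} (hk : k < 128) :
    uAt k < 512 ∧ ∃ g ∈ X, Rep C.M g (uAt k) := by
  have hw := List.all_eq_true.1 words_ok k (List.mem_range.2 hk)
  simp only [Bool.and_eq_true, Nat.beq_eq, decide_eq_true_eq] at hw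
  refine ⟨hw.2, ?_⟩
  rw [← hw.1]
  have key : ∀ l : List (ℕ × ℕ × ℕ), (∀ p ∈ l, p ∈ uGens) → ∀ m, wordU l m < 512 ∧ ∃ g ∈ X, Rep C.M g (wordU l m) := by
    intro l
    induction l with
    | nil => intro _ m; exact ⟨by simp [wordU], 1, one_mem _, Rep.one⟩
    | cons p l ih =>
      intro hl m
      obtain ⟨hlt, g, hg, hr⟩ := ih (fun x hx => hl x (List.mem_cons_of_mem _ hx)) (m / 2)
      rw [wordU]
      split_ifs
      · have hp := hl p List.mem_cons_self
        have hok := List.all_eq_true.1 gens_ok p hp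
        simp only [Bool.and_eq_true, decide_eq_true_eq, List.all_eq_true, List.mem_range, Nat.beq_eq] at hok
        obtain ⟨⟨⟨⟨⟨h512, ha⟩, hb⟩, hsa⟩, hsb⟩, -⟩ := hok
        obtain ⟨t, -, -, -, ht⟩ := C.exists_tr ha hsa
        obtain ⟨t', -, -, -, ht'⟩ := C.exists_tr hb hsb
        exact ⟨(mulIdx_spec h512 hlt).1, t * t' * g, mul_mem (hX _ ha _ hb hsa hsb t t' ht ht') hg,
          (C.gen_rep hp ht ht').mul h512 hlt hr⟩
      · exact ⟨hlt, g, hg, hr⟩
  exact (key uGens (fun p hp => hp) k).2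

/-- No transvection at a vector of the small orbit lies in the group. -/
theorem not_tr {a : ℕ} (ha : a < 4096) (hs : inSmall 0 a = true) {g : V ≃ₗ[ZMod 2] V} (hg : IsTr C.M g a) :
    g ∉ Γ₀ := by
  intro hgΓ
  haveI := finite_equiv (V := V)
  have hall : ∀ b < 4096, inSmall 0 b = true → ∀ h, IsTr C.M h b → h ∈ Γ₀ := by
    intro b hb hsb h hh
    obtain ⟨γ, hγ, he⟩ := C.trans a ha b hb hs hsb
    rw [hh.unique (C.conj_tr (C.le_autGroup hγ) ha hg b hb he.symm)]
    exact mul_mem (mul_mem hγ hgΓ) (inv_mem hγ)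
  obtain ⟨t, -, -, -, ht, htrep⟩ := C.exists_t0
  have htΓ := hall 3771 (by norm_num) t0_ok.2.2.2 t ht
  have hu := fun (k : ℕ) (hk : k < 128) => C.uAt_mem Γ₀
    (fun a ha b hb hsa hsb g h hg hh => mul_mem (hall a ha hsa g hg) (hall b hb hsb h hh)) hk
  let L := (List.range 128).map uAt ++ (List.range 128).map (fun k => mulIdx (uAt k) 63)
  have hL : ∀ i ∈ L, i < 512 ∧ ∃ g ∈ Γ₀ ⊓ sylGroup C.M, Rep C.M g i := by
    intro i hi
    rcases List.mem_append.1 hi with h | h <;> obtain ⟨k, hk, rfl⟩ := List.mem_map.1 h <;>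
      obtain ⟨h512, g, hgm, hgr⟩ := hu k (List.mem_range.1 hk)
    · exact ⟨h512, g, ⟨hgm, _, h512, hgr⟩, hgr⟩
    · exact ⟨(mulIdx_spec h512 (by norm_num)).1, g * t,
        ⟨mul_mem hgm htΓ, _, (mulIdx_spec h512 (by norm_num)).1, hgr.mul h512 (by norm_num) htrep⟩,
        hgr.mul h512 (by norm_num) htrep⟩
  have hlen : L.length = 256 := by simp [L]
  choose hlt f hf hr using hL
  have hinj : Function.Injective fun i : Fin L.length => (⟨f L[i] (List.getElem_mem _), hf _ _⟩ : ↥(Γ₀ ⊓ sylGroup C.M)) := by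
    intro i j e
    have e' : f L[i] (List.getElem_mem _) = f L[j] (List.getElem_mem _) := congrArg Subtype.val e
    have h1 := hr L[i] (List.getElem_mem _)
    rw [e'] at h1
    exact Fin.ext ((List.Nodup.getElem_inj_iff distinct_ok (hi := i.isLt) (hj := j.isLt)).1
      (h1.eq_num (hlt _ (List.getElem_mem _)) (hlt _ (List.getElem_mem _)) (hr _ _)))
  have hge := Nat.card_le_card_of_injective _ hinj
  rw [Nat.card_fin, hlen] at hge
  have h1 : Nat.card ↥(Γ₀ ⊓ sylGroup C.M) ∣ 9797760 := C.card ▸ Subgroup.card_dvd_of_le inf_le_left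
  have h2 : Nat.card ↥(Γ₀ ⊓ sylGroup C.M) ∣ 512 := sylGroup_card C.M ▸ Subgroup.card_dvd_of_le inf_le_right
  have := Nat.le_of_dvd (by norm_num) (Nat.dvd_gcd h1 h2)
  rw [show Nat.gcd 9797760 512 = 128 by norm_num] at this
  omega

/-- An element of the 2-group not commuting with `n`, with square one. -/
theorem exists_semi : ∃ g ∈ autGroup C.M, g * g = 1 ∧ g * n ≠ n * g ∧ Rep C.M g 2 := by
  obtain ⟨g, hg⟩ := exists_rep C.M (show 2 < 512 by norm_num)
  obtain ⟨h22, x, hx, hne⟩ : mulIdx 2 2 = 0 ∧ ∃ x < 4096, fe 2 (nmul x) ≠ nmul (fe 2 x) := by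
    rcases semi_ok with ⟨h1, h2⟩ | ⟨h1, h2⟩
    · exact ⟨h1, 1, by norm_num, fun e => by rw [e, Nat.beq_refl] at h2; exact Bool.noConfusion h2⟩
    · exact ⟨h1, 15, by norm_num, fun e => by rw [e, Nat.beq_refl] at h2; exact Bool.noConfusion h2⟩
  refine ⟨g, sylGroup_le C.M ⟨2, by norm_num, hg⟩, (hg.mul (by norm_num) (by norm_num) hg).eq_map
    (by rw [h22]; exact Rep.one), fun e => hne ?_, hg⟩
  have e' := LinearEquiv.congr_fun e (C.M.e x)
  change g (n (C.M.e x)) = n (g (C.M.e x)) at e'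
  rw [C.M.n_e x hx, hg _ (nmul_lt' hx), hg x hx, C.M.n_e _ (fe_lt _ _)] at e'
  exact C.M.inj _ (fe_lt _ _) _ (nmul_lt' (fe_lt _ _)) e'

/-- The group has index two in the automorphisms commuting with `n`. -/
theorem lin_index : (Γ₀.subgroupOf (autGroup C.M ⊓ Subgroup.centralizer {n})).index = 2 ∧
    Γ₀ ≤ autGroup C.M ⊓ Subgroup.centralizer {n} := by
  haveI := finite_equiv (V := V)
  set L := autGroup C.M ⊓ Subgroup.centralizer {n}
  have hle : Γ₀ ≤ L := fun γ hγ => ⟨C.le_autGroup hγ,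
    Subgroup.mem_centralizer_singleton_iff.2 (mul_inv_eq_iff_eq_mul.1 (C.cent γ hγ))⟩
  refine ⟨?_, hle⟩
  obtain ⟨t, htA, htn, -, ht⟩ := C.exists_tr (show 15 < 4096 by norm_num) t0_ok.2.2.1
  obtain ⟨σ, hσA, -, hσn, -⟩ := C.exists_semi
  have h1 : 2 ≤ (L.subgroupOf (autGroup C.M)).index := by
    by_contra h
    have h0 : (L.subgroupOf (autGroup C.M)).index ≠ 0 := Subgroup.index_ne_zero_of_finite
    have htop := Subgroup.index_eq_one.1 (show (L.subgroupOf (autGroup C.M)).index = 1 by omega)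
    have hmem : (⟨σ, hσA⟩ : autGroup C.M) ∈ L.subgroupOf (autGroup C.M) := htop ▸ Subgroup.mem_top _
    exact hσn (Subgroup.mem_centralizer_singleton_iff.1 (Subgroup.mem_subgroupOf.1 hmem).2)
  have e1 := Subgroup.card_mul_index (L.subgroupOf (autGroup C.M))
  rw [Nat.card_congr (Subgroup.subgroupOfEquivOfLe (inf_le_left : L ≤ autGroup C.M)).toEquiv] at e1
  have e2 := Subgroup.card_mul_index (Γ₀.subgroupOf L)
  rw [Nat.card_congr (Subgroup.subgroupOfEquivOfLe hle).toEquiv, C.card] at e2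
  have hA := autGroup_card C.M
  have h2 : 2 ≤ (Γ₀.subgroupOf L).index := by
    by_contra h
    have h0 : (Γ₀.subgroupOf L).index ≠ 0 := Subgroup.index_ne_zero_of_finite
    have htop := Subgroup.index_eq_one.1 (show (Γ₀.subgroupOf L).index = 1 by omega)
    have hmem : (⟨t, htA, Subgroup.mem_centralizer_singleton_iff.2 htn⟩ : L) ∈ Γ₀.subgroupOf L :=
      htop ▸ Subgroup.mem_top _
    exact C.not_tr (by norm_num) t0_ok.2.2.1 ht hmem
  have h3 : Nat.card L * 2 ≤ 2 * 19595520 := le_trans (le_trans (Nat.mul_le_mul_left _ h1) e1.le) hA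
  by_contra hne
  have h4 : 9797760 * 3 ≤ Nat.card L := by
    rw [← e2]; exact Nat.mul_le_mul_left _ (by omega)
  omega

/-- Products of two transvections lie in the group. -/
theorem tr_mul_mem {a b : ℕ} (ha : a < 4096) (hb : b < 4096) (hsa : inSmall 0 a = true) (hsb : inSmall 0 b = true)
    {g h : V ≃ₗ[ZMod 2] V} (hg : IsTr C.M g a) (hh : IsTr C.M h b) : g * h ∈ Γ₀ := by
  obtain ⟨g', hgA, hgn, -, hg'⟩ := C.exists_tr ha hsa
  obtain ⟨h', hhA, hhn, -, hh'⟩ := C.exists_tr hb hsb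
  rw [hg.unique hg', hh.unique hh']
  set L := autGroup C.M ⊓ Subgroup.centralizer {n}
  have m1 : (⟨g', hgA, Subgroup.mem_centralizer_singleton_iff.2 hgn⟩ : L) ∉ Γ₀.subgroupOf L := fun hm =>
    C.not_tr ha hsa hg' hm
  have m2 : (⟨h', hhA, Subgroup.mem_centralizer_singleton_iff.2 hhn⟩ : L) ∉ Γ₀.subgroupOf L := fun hm =>
    C.not_tr hb hsb hh' hm
  exact Subgroup.mem_subgroupOf.1 ((Subgroup.mul_mem_iff_of_index_two C.lin_index.1).2 (iff_of_false m1 m2))

theorem uAt_spec {k : ℕ} (hk : k < 128) : uAt k < 512 ∧ ∃ g ∈ Γ₀, Rep C.M g (uAt k) :=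
  C.uAt_mem Γ₀ (fun _ ha _ hb hsa hsb _ _ hg hh => C.tr_mul_mem ha hb hsa hsb hg hh) hk

/-- Two-subgroups move into the group of order 128. -/
theorem conj_into {T : Subgroup (V ≃ₗ[ZMod 2] V)} (hT : T ≤ Γ₀) (h2 : IsPGroup 2 T) :
    ∃ γ ∈ Γ₀, ∀ t ∈ T, ∃ k < 128, Rep C.M (γ * t * γ⁻¹) (uAt k) := by
  classical
  haveI := finite_equiv (V := V)
  haveI : Fact (Nat.Prime 2) := ⟨Nat.prime_two⟩
  set U := Γ₀ ⊓ sylGroup C.M
  choose hlt f hfΓ hfr using fun k : Fin 128 => C.uAt_spec k.isLt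
  let φ : Fin 128 → U := fun k => ⟨f k, hfΓ k, _, hlt k, hfr k⟩
  have hinj : Function.Injective φ := fun i j e => by
    have e' : f i = f j := congrArg Subtype.val e
    have h1 : Rep C.M (f j) (uAt i) := e' ▸ hfr i
    have hn := List.nodup_append.1 distinct_ok |>.1
    have := h1.eq_num (hlt i) (hlt j) (hfr j)
    exact Fin.ext (List.inj_on_of_nodup_map hn (List.mem_range.2 i.isLt) (List.mem_range.2 j.isLt) this)
  have hUc : Nat.card U = 128 := by
    have hge := Nat.card_le_card_of_injective _ hinj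
    rw [Nat.card_fin] at hge
    have h1 : Nat.card U ∣ 9797760 := C.card ▸ Subgroup.card_dvd_of_le inf_le_left
    have h3 : Nat.card U ∣ 512 := sylGroup_card C.M ▸ Subgroup.card_dvd_of_le inf_le_right
    have := Nat.le_of_dvd (by norm_num) (Nat.dvd_gcd h1 h3)
    rw [show Nat.gcd 9797760 512 = 128 by norm_num] at this
    omega
  have hsurj : Function.Surjective φ := ((Nat.bijective_iff_injective_and_card φ).2 ⟨hinj, by rw [Nat.card_fin, hUc]⟩).2
  -- Sylow subgroups of the group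
  let US : Sylow 2 Γ₀ := Sylow.ofCard (U.subgroupOf Γ₀) (by
    rw [Nat.card_congr (Subgroup.subgroupOfEquivOfLe (inf_le_left : U ≤ Γ₀)).toEquiv, hUc, C.card]
    rw [show (9797760 : ℕ).factorization 2 = 7 from ?_]
    · norm_num
    · rw [Nat.factorization_def _ Nat.prime_two, show (9797760 : ℕ) = 2 ^ 7 * 76545 by norm_num,
        padicValNat.mul (by norm_num) (by norm_num), padicValNat.prime_pow,
        padicValNat.eq_zero_of_not_dvd (by norm_num)])
  have hTp : IsPGroup 2 (T.subgroupOf Γ₀) := h2.of_equiv (Subgroup.subgroupOfEquivOfLe hT).symm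
  obtain ⟨S, hS⟩ := hTp.exists_le_sylow
  obtain ⟨g, hg⟩ := MulAction.exists_smul_eq Γ₀ S US
  refine ⟨g.1, g.2, fun t ht => ?_⟩
  have hmem : MulAut.conj g (⟨t, hT ht⟩ : Γ₀) ∈ (US : Subgroup Γ₀) := by
    rw [← hg, Sylow.coe_subgroup_smul]
    exact Subgroup.smul_mem_pointwise_smul _ _ _ (hS (Subgroup.mem_subgroupOf.2 ht))
  obtain ⟨k, hk⟩ := hsurj ⟨g.1 * t * g.1⁻¹, Subgroup.mem_subgroupOf.1 hmem⟩
  refine ⟨k, k.isLt, ?_⟩
  rw [show g.1 * t * g.1⁻¹ = f k from (congrArg Subtype.val hk).symm]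
  exact hfr k

theorem rep_eq {g h : V ≃ₗ[ZMod 2] V} {i j : ℕ} (hi : i < 128) (hj : j < 128) (hg : Rep C.M g (uAt i))
    (hh : Rep C.M h (uAt j)) : (g = h ↔ i = j) := by
  refine ⟨fun e => ?_, fun e => hg.eq_map (e ▸ hh)⟩
  have hn := List.nodup_append.1 distinct_ok |>.1
  exact List.inj_on_of_nodup_map hn (List.mem_range.2 hi) (List.mem_range.2 hj)
    ((e ▸ hg).eq_num (C.uAt_spec hi).1 (C.uAt_spec hj).1 hh)

/-- An involution of the list has a mask. -/
theorem invol_mask {g : V ≃ₗ[ZMod 2] V} {k : ℕ} (hk : k < 128) (hg : Rep C.M g (uAt k)) (h2 : g * g = 1) (h1 : g ≠ 1) :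
    ∃ c, (k, c) ∈ uInv ∧ ∀ h j, j < 128 → Rep C.M h (uAt j) → g * h = h * g → Nat.testBit c j = true := by
  have h := List.all_eq_true.1 inv_ok k (List.mem_range.2 hk)
  have hlt := (C.uAt_spec hk).1
  have e0 : mulIdx (uAt k) (uAt k) = 0 :=
    (Rep.eq_num (mulIdx_spec hlt hlt).1 (by norm_num) (hg.mul hlt hlt hg) (by rw [h2]; exact Rep.one))
  simp only [Bool.or_eq_true, Bool.not_eq_true', List.any_eq_true, Nat.beq_eq] at h
  rcases h with (h | h) | ⟨⟨k', c⟩, hp, rfl⟩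
  · rw [e0, Nat.beq_refl] at h; exact Bool.noConfusion h
  · exact absurd (hg.eq_map (h ▸ Rep.one)) h1
  refine ⟨c, hp, fun h j hj hh hc => ?_⟩
  have hm := List.all_eq_true.1 mask_ok _ hp
  simp only [Bool.and_eq_true, List.all_eq_true, List.mem_range, beq_iff_eq] at hm
  rw [hm.2 j hj, Nat.beq_eq]
  have hjl := (C.uAt_spec hj).1
  refine Rep.eq_num (mulIdx_spec hlt hjl).1 (mulIdx_spec hjl hlt).1 (hg.mul hlt hjl hh) ?_
  rw [hc]; exact hh.mul hjl hlt hg

theorem fix_check {k c : ℕ} (hp : (k, c) ∈ uInv) :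
    (∀ x < 4096, qn (fe (uAt k) x ^^^ x) = 0) ∧
      ((List.range 4096).filter fun x => Nat.beq (fe (uAt k) x) x).length = 256 := by
  have hk : k ∈ uInv.map Prod.fst := List.mem_map.2 ⟨_, hp, rfl⟩
  have key : ∀ l : List ℕ, (l.all fun p =>
      ((List.range 4096).all fun x => Nat.beq (qn (Nat.xor (fe (uAt p) x) x)) 0) &&
        Nat.beq ((List.range 4096).filter fun x => Nat.beq (fe (uAt p) x) x).length 256) = true → k ∈ l →
      (∀ x < 4096, qn (fe (uAt k) x ^^^ x) = 0) ∧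
        ((List.range 4096).filter fun x => Nat.beq (fe (uAt k) x) x).length = 256 := fun l h hkl => by
    have h := List.all_eq_true.1 h k hkl
    simp only [Bool.and_eq_true, List.all_eq_true, List.mem_range, Nat.beq_eq] at h
    exact h
  rw [show uInv.map Prod.fst = [1, 2, 3, 4, 5] ++ [8, 9, 10, 11, 16] ++ [17, 26, 27, 30, 31] ++ [32, 33, 34, 35, 36] ++ [37, 50, 51, 58, 59] ++ [62, 63, 64, 65, 74] ++ [75, 80, 81, 90, 91] from rfl] at hk
  simp only [List.mem_append] at hk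
  rcases hk with (((((h | h) | h) | h) | h) | h) | h
  exacts [key _ fix_ok0 h, key _ fix_ok1 h, key _ fix_ok2 h, key _ fix_ok3 h, key _ fix_ok4 h, key _ fix_ok5 h, key _ fix_ok6 h]

/-- Three independent commuting involutions of the list have at most sixteen in their common centraliser. -/
theorem triple_le {p r t c d e : ℕ} (hp : (p, c) ∈ uInv) (hr : (r, d) ∈ uInv) (ht : (t, e) ∈ uInv) (h1 : p < r)
    (h2 : r < t) (a : Nat.testBit c r = true) (b : Nat.testBit c t = true) (b' : Nat.testBit d t = true)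
    (hne : uAt t ≠ mulIdx (uAt p) (uAt r)) : common c d e ≤ 16 := by
  have h := List.all_eq_true.1 (List.all_eq_true.1 triple_ok _ hp) _ hr
  simp only [Bool.or_eq_true, Bool.not_eq_true', Bool.and_eq_false_iff, List.all_eq_true, Nat.beq_eq, Nat.ble_eq] at h
  rcases h with h | h
  · rw [a, (Nat.blt_eq.symm ▸ h1 : Nat.blt p r = true)] at h; simp at h
  rcases h _ ht with (h | h) | h
  · rw [b, b', (Nat.blt_eq.symm ▸ h2 : Nat.blt r t = true)] at h; simp at h
  · exact absurd h hne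
  · exact h

/-- The facts. -/
theorem facts : Facts q Γ₀ := by
  classical
  haveI := finite_equiv (V := V)
  refine ⟨fun T hT h2 => ?_, fun s hs h2 h1 => ?_, fun T R hT hp hR hR2 hRc hR8 => ?_⟩
  · obtain ⟨γ, -, h⟩ := C.conj_into hT h2
    choose k hk hr using h
    refine le_trans (Nat.card_le_card_of_injective (fun t : T => (⟨k t t.2, hk t t.2⟩ : Fin 128)) fun a b e => ?_)
      (by rw [Nat.card_fin])
    have h1 := hr a a.2
    rw [show k a a.2 = k b b.2 from congrArg Fin.val e] at h1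
    exact Subtype.ext (mul_left_cancel (mul_right_cancel (h1.eq_map (hr b b.2))))
  · have hp2 : IsPGroup 2 (Subgroup.zpowers s) := by
      refine IsPGroup.of_card (n := 1) ?_
      rw [Nat.card_zpowers, pow_one]
      exact orderOf_eq_prime (by rw [pow_two]; exact h2) h1
    obtain ⟨γ, hγ, h⟩ := C.conj_into (Subgroup.zpowers_le.2 hs) hp2
    obtain ⟨k, hk, hr⟩ := h s (Subgroup.mem_zpowers s)
    set s' := γ * s * γ⁻¹ with hs'
    obtain ⟨c, hc, -⟩ := C.invol_mask hk hr (by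
      rw [hs', show γ * s * γ⁻¹ * (γ * s * γ⁻¹) = γ * (s * s) * γ⁻¹ by group, h2, mul_one, mul_inv_cancel])
      (fun e => h1 (conj_eq_one_iff.1 e))
    obtain ⟨hq, hlen⟩ := C.fix_check hc
    have hsv : ∀ v, s' (γ v) = γ (s v) := fun v => by
      show γ (s (γ.symm (γ v))) = _
      rw [γ.symm_apply_apply]
    refine ⟨?_, fun v => ?_⟩
    · let eF : {v : V // s v = v} ≃ {v : V // s' v = v} :=
        { toFun := fun v => ⟨γ v.1, by rw [hsv, v.2]⟩
          invFun := fun v => ⟨γ.symm v.1, γ.injective (by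
            rw [← hsv, γ.apply_symm_apply]; exact v.2)⟩
          left_inv := fun v => Subtype.ext (γ.symm_apply_apply _)
          right_inv := fun v => Subtype.ext (γ.apply_symm_apply _) }
      have hF : ∀ x < 4096, s' (C.M.e x) = C.M.e x ↔ fe (uAt k) x = x := fun x hx => by
        rw [hr x hx]; exact ⟨C.M.inj _ (fe_lt _ _) x hx, fun e => by rw [e]⟩
      let Fn : Finset ℕ := ((List.range 4096).filter fun x => Nat.beq (fe (uAt k) x) x).toFinset
      have hFn : ∀ x, x ∈ Fn ↔ x < 4096 ∧ fe (uAt k) x = x := fun x => by simp [Fn]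
      rw [Nat.card_congr eF, ← hlen, ← List.toFinset_card_of_nodup (List.nodup_range.filter _),
        ← Nat.card_eq_finsetCard]
      refine (Nat.card_eq_of_bijective (fun x : Fn => (⟨C.M.e x.1, (hF _ ((hFn _).1 x.2).1).2 ((hFn _).1 x.2).2⟩ :
        {v : V // s' v = v})) ⟨fun x y e => ?_, fun v => ?_⟩).symm
      · exact Subtype.ext (C.M.inj _ ((hFn _).1 x.2).1 _ ((hFn _).1 y.2).1 (congrArg Subtype.val e))
      · obtain ⟨x, hx, e⟩ := C.M.surj v.1
        exact ⟨⟨x, (hFn x).2 ⟨hx, (hF x hx).1 (by rw [e]; exact v.2)⟩⟩, Subtype.ext e⟩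
    · obtain ⟨x, hx, e⟩ := C.M.surj (γ v)
      rw [← C.hq γ hγ, map_add, ← hsv, ← e, hr x hx, ← C.M.add _ (fe_lt _ _) x hx, C.M.q_e _ (xor_lt_pow (fe_lt _ _) hx),
        hq x hx, Nat.cast_zero]
  · obtain ⟨γ, hγ, h⟩ := C.conj_into hT hp
    choose k hk hr using h
    let c : (V ≃ₗ[ZMod 2] V) → (V ≃ₗ[ZMod 2] V) := fun t => γ * t * γ⁻¹
    have cmul : ∀ a b, c (a * b) = c a * c b := fun a b => by simp only [c]; group
    have cinj : Function.Injective c := fun a b e => mul_left_cancel (mul_right_cancel e)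
    have c1 : c 1 = 1 := by simp [c]
    have hdata : ∀ r ∈ R, r ≠ 1 → ∃ p m, p < 128 ∧ (p, m) ∈ uInv ∧ Rep C.M (c r) (uAt p) ∧
        ∀ t (ht : t ∈ T), Nat.testBit m (k t ht) = true := by
      intro r hrR hr1
      obtain ⟨m, hm, hmask⟩ := C.invol_mask (hk r (hR hrR)) (hr r (hR hrR))
        (by show c r * c r = 1; rw [← cmul, hR2 r hrR, c1])
        (fun e => hr1 (cinj (e.trans c1.symm)))
      exact ⟨_, m, hk r (hR hrR), hm, hr r (hR hrR), fun t ht => hmask _ _ (hk t ht) (hr t ht)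
        (by show c r * c t = c t * c r; rw [← cmul, ← cmul, hRc r hrR t ht])⟩
    obtain ⟨r1, hr1, n1⟩ : ∃ r ∈ R, r ≠ 1 := by
      by_contra! hcon
      have : Nat.card R ≤ 1 := Finite.card_le_one_iff_subsingleton.2
        ⟨fun a b => Subtype.ext ((hcon a a.2).trans (hcon b b.2).symm)⟩
      omega
    have hext : ∀ L : List (V ≃ₗ[ZMod 2] V), L.length < 8 → ∃ r ∈ R, r ∉ L := by
      intro L hL
      by_contra! hcon
      have : Nat.card R ≤ L.length := by
        refine le_trans (Nat.card_le_card_of_injective (fun r : R => (⟨r.1, List.mem_toFinset.2 (hcon r r.2)⟩ : L.toFinset))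
          fun a b e => Subtype.ext (congrArg (fun x : L.toFinset => x.1) e)) ?_
        rw [Nat.card_eq_finsetCard]; exact L.toFinset_card_le
      omega
    obtain ⟨r2, hr2, n2⟩ := hext [1, r1] (by simp)
    simp only [List.mem_cons, List.not_mem_nil, or_false, not_or] at n2
    obtain ⟨r3, hr3, n3⟩ := hext [1, r1, r2, r1 * r2] (by simp)
    simp only [List.mem_cons, List.not_mem_nil, or_false, not_or] at n3
    obtain ⟨p1, m1, q1, i1, e1, b1⟩ := hdata r1 hr1 n1
    obtain ⟨p2, m2, q2, i2, e2, b2⟩ := hdata r2 hr2 n2.1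
    obtain ⟨p3, m3, q3, i3, e3, b3⟩ := hdata r3 hr3 n3.1
    have hk' : ∀ r (hrR : r ∈ R) p, p < 128 → Rep C.M (c r) (uAt p) → k r (hR hrR) = p := fun r hrR p hp e =>
      (C.rep_eq (hk _ _) hp (hr r (hR hrR)) e).1 rfl
    have k1 := hk' r1 hr1 p1 q1 e1
    have k2 := hk' r2 hr2 p2 q2 e2
    have k3 := hk' r3 hr3 p3 q3 e3
    have hne : ∀ {r r' p p'}, p < 128 → p' < 128 → Rep C.M (c r) (uAt p) → Rep C.M (c r') (uAt p') → r ≠ r' → p ≠ p' :=
      fun hp hp' e e' hrr h => hrr (cinj ((C.rep_eq hp hp' e e').2 h))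
    have hprod : ∀ {r r' r'' p p' p''}, p < 128 → p' < 128 → p'' < 128 → Rep C.M (c r) (uAt p) → Rep C.M (c r') (uAt p') →
        Rep C.M (c r'') (uAt p'') → r'' ≠ r * r' → uAt p'' ≠ mulIdx (uAt p) (uAt p') := by
      intro r r' r'' p p' p'' hp hp' hp'' e e' e'' hrr h
      refine hrr (cinj ?_)
      rw [cmul]
      exact e''.eq_map (h ▸ e.mul (C.uAt_spec hp).1 (C.uAt_spec hp').1 e')
    have ne32 : r3 ≠ r2 * r1 := by
      rw [hRc r2 hr2 r1 (hR hr1)]; exact n3.2.2.2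
    have n1_23 : r1 ≠ r2 * r3 ∧ r1 ≠ r3 * r2 := by
      constructor <;> intro e
      · refine ne32 ?_; rw [e, ← mul_assoc, hR2 r2 hr2, one_mul]
      · refine n3.2.2.2 ?_; rw [e, mul_assoc, hR2 r2 hr2, mul_one]
    have n2_13 : r2 ≠ r1 * r3 ∧ r2 ≠ r3 * r1 := by
      constructor <;> intro e
      · refine n3.2.2.2 ?_; rw [e, ← mul_assoc, hR2 r1 hr1, one_mul]
      · refine ne32 ?_; rw [e, mul_assoc, hR2 r1 hr1, mul_one]
    have hcount : ∀ a b d : ℕ, common a b d ≤ 16 → (∀ t (ht : t ∈ T), Nat.testBit a (k t ht) = true ∧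
        Nat.testBit b (k t ht) = true ∧ Nat.testBit d (k t ht) = true) → Nat.card T ≤ 16 := by
      intro a b d hle hbits
      let F := ((List.range 128).filter fun j => Nat.testBit (Nat.land a (Nat.land b d)) j).toFinset
      have hF : ∀ t : T, k t t.2 ∈ F := fun t => by
        obtain ⟨x1, x2, x3⟩ := hbits t t.2
        simp only [F, List.mem_toFinset, List.mem_filter, List.mem_range]
        refine ⟨hk t t.2, ?_⟩
        show Nat.testBit (a &&& (b &&& d)) _ = true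
        rw [Nat.testBit_land, Nat.testBit_land, x1, x2, x3]; rfl
      refine le_trans (Nat.card_le_card_of_injective (fun t : T => (⟨k t t.2, hF t⟩ : F)) fun x y e => ?_) ?_
      · have h1 := hr x x.2
        rw [show k x x.2 = k y y.2 from congrArg Subtype.val e] at h1
        exact Subtype.ext (cinj (h1.eq_map (hr y y.2)))
      · rw [Nat.card_eq_finsetCard]; exact (List.toFinset_card_le _).trans hle
    have t12 : Nat.testBit m1 p2 = true := k2 ▸ b1 r2 (hR hr2)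
    have t13 : Nat.testBit m1 p3 = true := k3 ▸ b1 r3 (hR hr3)
    have t21 : Nat.testBit m2 p1 = true := k1 ▸ b2 r1 (hR hr1)
    have t23 : Nat.testBit m2 p3 = true := k3 ▸ b2 r3 (hR hr3)
    have t31 : Nat.testBit m3 p1 = true := k1 ▸ b3 r1 (hR hr1)
    have t32 : Nat.testBit m3 p2 = true := k2 ▸ b3 r2 (hR hr2)
    rcases lt_trichotomy p1 p2 with h12 | h12 | h12
    · rcases lt_trichotomy p2 p3 with h23 | h23 | h23
      · exact hcount _ _ _ (C.triple_le i1 i2 i3 h12 h23 t12 t13 t23 (hprod q1 q2 q3 e1 e2 e3 n3.2.2.2))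
          fun t ht => ⟨b1 t ht, b2 t ht, b3 t ht⟩
      · exact absurd h23 (hne q2 q3 e2 e3 (Ne.symm n3.2.2.1))
      rcases lt_trichotomy p1 p3 with h13 | h13 | h13
      · exact hcount _ _ _ (C.triple_le i1 i3 i2 h13 h23 t13 t12 t32 (hprod q1 q3 q2 e1 e3 e2 n2_13.1))
          fun t ht => ⟨b1 t ht, b3 t ht, b2 t ht⟩
      · exact absurd h13 (hne q1 q3 e1 e3 (Ne.symm n3.2.1))
      · exact hcount _ _ _ (C.triple_le i3 i1 i2 h13 h12 t31 t32 t12 (hprod q3 q1 q2 e3 e1 e2 n2_13.2))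
          fun t ht => ⟨b3 t ht, b1 t ht, b2 t ht⟩
    · exact absurd h12 (hne q1 q2 e1 e2 (Ne.symm n2.2))
    rcases lt_trichotomy p1 p3 with h13 | h13 | h13
    · exact hcount _ _ _ (C.triple_le i2 i1 i3 h12 h13 t21 t23 t13 (hprod q2 q1 q3 e2 e1 e3 ne32))
        fun t ht => ⟨b2 t ht, b1 t ht, b3 t ht⟩
    · exact absurd h13 (hne q1 q3 e1 e3 (Ne.symm n3.2.1))
    rcases lt_trichotomy p2 p3 with h23 | h23 | h23
    · exact hcount _ _ _ (C.triple_le i2 i3 i1 h23 h13 t23 t21 t31 (hprod q2 q3 q1 e2 e3 e1 n1_23.1))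
        fun t ht => ⟨b2 t ht, b3 t ht, b1 t ht⟩
    · exact absurd h23 (hne q2 q3 e2 e3 (Ne.symm n3.2.2.1))
    · exact hcount _ _ _ (C.triple_le i3 i2 i1 h23 h12 t32 t31 t21 (hprod q3 q2 q1 e3 e2 e1 n1_23.2))
        fun t ht => ⟨b3 t ht, b2 t ht, b1 t ht⟩

end Co

end Cfsg.Agent.Fi24ByInvol
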