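/-
All automorphisms of the coordinates: order, 2-subgroups, the stabiliser of 15.

* `Co.two_le_aut`, `Co.not_small_commutators`, `Co.no_normal_two`
-/
import Cfsg.Agent.Lib.Fi24ByInvol.Facts
import Cfsg.Agent.Lib.Fi24ByInvol.CertsFour
import Cfsg.Agent.Lib.Forms.Witt
import Mathlib.GroupTheory.PGroup

set_option autoImplicit false
set_option maxRecDepth 100000

namespace Cfsg.Agent.Fi24ByInvol

open LargeFischer
open scoped commutatorElement

universe u

theorem v27_cover {y : W6} (hy : qW y = 0) (h0 : y ≠ 0) : ∃ i, V27 i = y := by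
  obtain ⟨a, rfl⟩ := e6_surj y
  rw [qW_e6] at hy
  have hq : q6 a.val = 0 := by
    have hlt : q6 a.val < 2 := Nat.lt_succ_of_le Nat.and_le_right
    generalize q6 a.val = c at *
    interval_cases c
    · rfl
    · exact absurd hy (by decide)
  have h1 := List.all_eq_true.1 vec_ok.2.1 a.val (List.mem_range.2 a.isLt)
  simp only [Bool.or_eq_true, Bool.not_eq_true', List.contains_iff_mem] at h1
  rcases h1 with (h1 | h1) | h1
  · rw [hq] at h1; exact absurd h1 (by decide)
  · exact absurd (by rw [Nat.eq_of_beq_eq_true h1]; funext j; simp [e6]) h0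
  · obtain ⟨k, hk, e⟩ := List.mem_iff_getElem.1 h1
    have hk27 : k < 27 := lt_of_lt_of_le hk (by decide)
    exact ⟨⟨k, hk27⟩, congrArg e6 ((List.getD_eq_getElem _ _ hk).trans e)⟩

theorem v27_singular (i : Fin 27) : qW (V27 i) = 0 ∧ V27 i ≠ 0 := by
  have h1 := List.all_eq_true.1 vec_ok.1 i.val (List.mem_range.2 i.isLt)
  simp only [Bool.and_eq_true, Nat.beq_eq, Bool.not_eq_true'] at h1
  refine ⟨by rw [V27, qW_e6]; show ((q6 (vecData.getD i.val 0) : ℕ) : ZMod 2) = 0; rw [h1.1.1.2, Nat.cast_zero],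
    fun e => ?_⟩
  have := e6_facts.2.2 (v27 i) 0 (e.trans (by funext j; simp [e6]))
  rw [show vecData.getD i.val 0 = 0 from congrArg Fin.val this] at h1
  exact absurd h1.1.2 (by decide)

/-- The orthogonal group moves any singular vector to any other. -/
theorem o6_trans (i j : Fin 27) : ∃ g ∈ Forms.preservingFun (F := ZMod 2) (⇑qW), g (V27 i) = V27 j := by
  obtain ⟨y, hy⟩ : ∃ y, QuadraticMap.polar qW (V27 i) y ≠ 0 := by
    by_contra! h
    exact (v27_singular i).2 (qW_nondeg _ h)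
  have hy1 : QuadraticMap.polar qW (V27 i) y = 1 := (show ∀ c : ZMod 2, c ≠ 0 → c = 1 by decide) _ hy
  let B := QuadraticMap.polarBilin qW
  let φ : W6 →ₗ[ZMod 2] W6 := (B.flip y).smulRight (V27 j)
  have hφ : ∀ x ∈ Submodule.span (ZMod 2) {V27 i}, ∃ c : ZMod 2, x = c • V27 i ∧ φ x = c • V27 j := by
    intro x hx
    obtain ⟨c, rfl⟩ := Submodule.mem_span_singleton.1 hx
    refine ⟨c, rfl, ?_⟩
    rw [map_smul]
    congr 1
    show QuadraticMap.polar qW (V27 i) y • V27 j = V27 j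
    rw [hy1, one_smul]
  obtain ⟨g, hg, hgx⟩ := Forms.witt_quadratic_map qW ((Forms.nondegenerate_polarBilin_iff _).2 qW_nondeg)
    (Submodule.span (ZMod 2) {V27 i}) φ (fun x hx h0 => by
      obtain ⟨c, rfl, e⟩ := hφ x hx
      rw [h0] at e
      rcases ((show ∀ c : ZMod 2, c = 0 ∨ c = 1 by decide) c) with rfl | rfl
      · rw [zero_smul]
      · rw [one_smul] at e; exact absurd e.symm (v27_singular j).2)
    (fun x hx => by
      obtain ⟨c, rfl, e⟩ := hφ x hx
      rw [e, QuadraticMap.map_smul, QuadraticMap.map_smul, (v27_singular i).1, (v27_singular j).1])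
  obtain ⟨c, hc, e⟩ := hφ (V27 i) (Submodule.mem_span_singleton_self _)
  refine ⟨g, hg, (hgx _ (Submodule.mem_span_singleton_self _)).trans ?_⟩
  rcases ((show ∀ c : ZMod 2, c = 0 ∨ c = 1 by decide) c) with rfl | rfl
  · rw [zero_smul] at hc; exact absurd hc (v27_singular i).2
  · rw [e, one_smul]

variable {V : Type u} [AddCommGroup V] [Module (ZMod 2) V] [Finite V] {q : QuadraticForm (ZMod 2) V}
  {n : V ≃ₗ[ZMod 2] V} {Γ₀ : Subgroup (V ≃ₗ[ZMod 2] V)}

namespace Co

variable (C : Co q Γ₀ n)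
include C

theorem card_aut : Nat.card (autGroup C.M) = 39191040 := by
  haveI := finite_equiv (V := V)
  have h1 : 9797760 ∣ Nat.card (autGroup C.M) := C.card ▸ Subgroup.card_dvd_of_le C.le_autGroup
  have h2 : 512 ∣ Nat.card (autGroup C.M) := sylGroup_card C.M ▸ Subgroup.card_dvd_of_le (sylGroup_le C.M)
  have h3 := Nat.lcm_dvd h1 h2
  rw [show Nat.lcm 9797760 512 = 39191040 by norm_num] at h3
  exact le_antisymm ((autGroup_card C.M).trans (by norm_num)) (Nat.le_of_dvd Nat.card_pos h3)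

theorem two_le_aut {T : Subgroup (V ≃ₗ[ZMod 2] V)} (hT : T ≤ autGroup C.M) (hp : IsPGroup 2 T) : Nat.card T ≤ 512 := by
  haveI := finite_equiv (V := V)
  haveI : Fact (Nat.Prime 2) := ⟨Nat.prime_two⟩
  obtain ⟨k, hk⟩ := IsPGroup.iff_card.1 hp
  have h := Subgroup.card_dvd_of_le hT
  rw [C.card_aut, hk, show (39191040 : ℕ) = 2 ^ 9 * 76545 by norm_num] at h
  have h9 := Nat.Coprime.dvd_of_dvd_mul_right (Nat.Coprime.pow_left k (by norm_num : Nat.Coprime 2 76545)) h
  rw [hk]
  exact Nat.le_of_dvd (by norm_num) h9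

/-- A 2-subgroup of order at least 256 has two different non-trivial commutators. -/
theorem not_small_commutators {T : Subgroup (V ≃ₗ[ZMod 2] V)} (hT : T ≤ autGroup C.M) (hp : IsPGroup 2 T)
    (hc : 256 ≤ Nat.card T) (t : V ≃ₗ[ZMod 2] V) (h : ∀ a ∈ T, ∀ b ∈ T, ⁅a, b⁆ = 1 ∨ ⁅a, b⁆ = t) : False := by
  classical
  haveI := finite_equiv (V := V)
  haveI : Fact (Nat.Prime 2) := ⟨Nat.prime_two⟩
  let U : Sylow 2 (autGroup C.M) := Sylow.ofCard ((sylGroup C.M).subgroupOf (autGroup C.M)) (by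
    rw [Nat.card_congr (Subgroup.subgroupOfEquivOfLe (sylGroup_le C.M)).toEquiv, sylGroup_card, C.card_aut,
      show (39191040 : ℕ).factorization 2 = 9 from ?_]
    · norm_num
    · rw [Nat.factorization_def _ Nat.prime_two, show (39191040 : ℕ) = 2 ^ 9 * 76545 by norm_num,
        padicValNat.mul (by norm_num) (by norm_num), padicValNat.prime_pow,
        padicValNat.eq_zero_of_not_dvd (by norm_num)])
  have hTp : IsPGroup 2 (T.subgroupOf (autGroup C.M)) := hp.of_equiv (Subgroup.subgroupOfEquivOfLe hT).symm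
  obtain ⟨S, hS⟩ := hTp.exists_le_sylow
  obtain ⟨γ, hγ⟩ := MulAction.exists_smul_eq (autGroup C.M) S U
  set T' := T.map (MulAut.conj γ.1).toMonoidHom with hT'
  have hTU : T' ≤ sylGroup C.M := by
    rintro _ ⟨x, hx, rfl⟩
    have hmem : MulAut.conj γ (⟨x, hT hx⟩ : autGroup C.M) ∈ (U : Subgroup (autGroup C.M)) := by
      rw [← hγ, Sylow.coe_subgroup_smul]
      exact Subgroup.smul_mem_pointwise_smul _ _ _ (hS (Subgroup.mem_subgroupOf.2 hx))
    exact Subgroup.mem_subgroupOf.1 hmem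
  have hc' : 256 ≤ Nat.card T' := by
    rwa [← Nat.card_congr (T.equivMapOfInjective _ (MulAut.conj γ.1).injective).toEquiv]
  have h' : ∀ a ∈ T', ∀ b ∈ T', ⁅a, b⁆ = 1 ∨ ⁅a, b⁆ = γ.1 * t * γ.1⁻¹ := by
    rintro _ ⟨a, ha, rfl⟩ _ ⟨b, hb, rfl⟩
    rw [← map_commutatorElement]
    rcases h a ha b hb with e | e <;> rw [e]
    · exact Or.inl (map_one _)
    · exact Or.inr rfl
  -- membership of the elements of the 2-group
  set W := T'.subgroupOf (sylGroup C.M)
  have hW : W.index = 1 ∨ W.index = 2 := by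
    have h1 := W.card_mul_index
    rw [Nat.card_congr (Subgroup.subgroupOfEquivOfLe hTU).toEquiv, sylGroup_card] at h1
    have h0 : W.index ≠ 0 := Subgroup.index_ne_zero_of_finite
    have : 256 * W.index ≤ 512 := by rw [← h1]; exact Nat.mul_le_mul_right _ hc'
    omega
  have hmul : ∀ a b : sylGroup C.M, a * b ∈ W ↔ (a ∈ W ↔ b ∈ W) := by
    intro a b
    rcases hW with e | e
    · simp [Subgroup.index_eq_one.1 e]
    · exact Subgroup.mul_mem_iff_of_index_two e
  choose rep hrep using fun i : Fin 512 => exists_rep C.M i.isLt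
  let mem : Fin 512 → Prop := fun i => rep i ∈ T'
  have hmem : ∀ i : ℕ, (hi : i < 512) → ∀ g, Rep C.M g i → (g ∈ T' ↔ mem ⟨i, hi⟩) := fun i hi g hg => by
    rw [hg.eq_map (hrep ⟨i, hi⟩)]
  let gi : ℕ → ℕ := fun j => genIdx.getD j 0
  have hgi : ∀ j < 8, gi j < 512 := fun j hj => by
    have hj' : j < genIdx.length := by rw [gen_small.2]; exact hj
    show genIdx.getD j 0 < 512
    rw [List.getD_eq_getElem _ _ hj']
    exact of_decide_eq_true (List.all_eq_true.1 gen_small.1 _ (List.getElem_mem _))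
  let bit : ℕ → Bool := fun j => if hj : j < 8 then decide ¬ mem ⟨gi j, hgi j hj⟩ else false
  let m := ∑ j ∈ Finset.range 8, if bit j then 2 ^ j else 0
  have hbit : ∀ j < 8, Nat.testBit m j = bit j := by
    have key : ∀ f : Fin 8 → Bool, ∀ j : Fin 8,
        Nat.testBit (∑ i : Fin 8, if f i then 2 ^ i.val else 0) j.val = f j := by decide +kernel
    intro j hj
    have := key (fun i => bit i.val) ⟨j, hj⟩
    rw [show m = ∑ i : Fin 8, if bit i.val then 2 ^ i.val else 0 from
      (Fin.sum_univ_eq_sum_range (fun i => if bit i then 2 ^ i else 0) 8).symm]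
    exact this
  have hm256 : m < 256 := by
    calc m ≤ ∑ j ∈ Finset.range 8, 2 ^ j := Finset.sum_le_sum fun j _ => by split_ifs <;> simp
      _ < 256 := by decide
  have key : ∀ f i, (hi : i < 512) → okF f i = true → ∀ g, Rep C.M g i → (g ∈ T' ↔ parity m f i = false) := by
    intro f
    induction f with
    | zero =>
      intro i hi hok g hg
      obtain rfl : i = 0 := Nat.eq_of_beq_eq_true hok
      rw [hg.eq_map Rep.one]
      simp [parity]
    | succ f ih =>
      intro i hi hok g hg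
      by_cases h0 : Nat.beq i 0 = true
      · obtain rfl : i = 0 := Nat.eq_of_beq_eq_true h0
        rw [hg.eq_map Rep.one]
        simp [parity]
      simp only [okF, Bool.or_eq_true] at hok
      replace hok := hok.resolve_left h0
      obtain ⟨a, ha⟩ := exists_rep C.M (hgi _ (parGen_lt i))
      obtain ⟨b, hb⟩ := exists_rep C.M (parIdx_lt i)
      have e : g = a * b := LinearEquiv.ext fun v => by
        obtain ⟨x, hx, rfl⟩ := C.M.surj v
        show g (C.M.e x) = a (b (C.M.e x))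
        rw [hg x hx, hb x hx, ha _ (fe_lt _ _)]
        congr 1
        refine (ext_two (f := fe i) (g := fun x => fe (genIdx.getD (parGen i) 0) (fe (parIdx i) x))
          (fun x _ y _ => fe_add _ x y) (fun x _ y _ => by rw [fe_add, fe_add]) fun c hc => ?_) x hx
        have h := (Bool.and_eq_true_iff.1 (List.all_eq_true.1 par_ok i (List.mem_range.2 hi))).2
        rw [Bool.or_eq_true] at h
        exact Nat.eq_of_beq_eq_true (List.all_eq_true.1 (h.resolve_left h0) c (List.mem_range.2 hc))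
      have h1 := hmul ⟨a, _, hgi _ (parGen_lt i), ha⟩ ⟨b, _, parIdx_lt i, hb⟩
      have hib := ih _ (parIdx_lt i) hok b hb
      have hia : a ∈ T' ↔ Nat.testBit m (parGen i) = false := by
        rw [hmem _ (hgi _ (parGen_lt i)) a ha, hbit _ (parGen_lt i)]
        simp only [bit, dif_pos (parGen_lt i), decide_eq_false_iff_not, not_not]
      have h2 : g ∈ T' ↔ (a ∈ T' ↔ b ∈ T') := by rw [e]; exact h1
      rw [h2, hia, hib, parity, if_neg (by simpa using h0)]
      cases Nat.testBit m (parGen i) <;> cases parity m f (parIdx i) <;> simp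
  obtain ⟨w, hw, hpar⟩ := List.any_eq_true.1 (List.all_eq_true.1 commWit_ok.2 m (List.mem_range.2 hm256))
  have hwo := List.all_eq_true.1 commWit_ok.1 w hw
  simp only [Bool.and_eq_true, decide_eq_true_eq, Bool.not_eq_true'] at hwo hpar
  obtain ⟨⟨⟨⟨⟨⟨i1, i2⟩, i3⟩, i4⟩, c1⟩, c2⟩, c3⟩ := hwo
  obtain ⟨⟨⟨p1, p2⟩, p3⟩, p4⟩ := hpar
  have hcm : ∀ i j, (hi : i < 512) → (hj : j < 512) → parity m 5 i = false → parity m 5 j = false →
      cmIdx i j < 512 ∧ ∃ g, (g = 1 ∨ g = γ.1 * t * γ.1⁻¹) ∧ Rep C.M g (cmIdx i j) := by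
    intro i j hi hj pi pj
    obtain ⟨a, ha⟩ := exists_rep C.M hi
    obtain ⟨b, hb⟩ := exists_rep C.M hj
    have haT := (key 5 i hi (okF_five hi) a ha).2 pi
    have hbT := (key 5 j hj (okF_five hj) b hb).2 pj
    obtain ⟨a', ha'⟩ := exists_rep C.M (invIdx_lt i)
    obtain ⟨b', hb'⟩ := exists_rep C.M (invIdx_lt j)
    have inv' : ∀ {i g g'}, i < 512 → Rep C.M g i → Rep C.M g' (invIdx i) → g' = g⁻¹ := by
      intro i g g' hi hg hg'
      have h1 := hg.mul hi (invIdx_lt i) hg'
      rw [Nat.eq_of_beq_eq_true (Bool.and_eq_true_iff.1 (List.all_eq_true.1 LargeFischer.inv_ok i (List.mem_range.2 hi))).2] at h1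
      exact eq_inv_of_mul_eq_one_right (h1.eq_map Rep.one)
    have l1 := (mulIdx_spec hi hj).1
    have l2 := (mulIdx_spec (invIdx_lt i) (invIdx_lt j)).1
    refine ⟨(mulIdx_spec l1 l2).1, a * b * (a' * b'), ?_, (ha.mul hi hj hb).mul l1 l2 (ha'.mul (invIdx_lt i) (invIdx_lt j) hb')⟩
    rw [inv' hi ha ha', inv' hj hb hb', show a * b * (a⁻¹ * b⁻¹) = ⁅a, b⁆ by rw [commutatorElement_def]; group]
    exact h' a haT b hbT
  obtain ⟨l1, g1, e1, r1⟩ := hcm _ _ i1 i2 p1 p2
  obtain ⟨l2, g2, e2, r2⟩ := hcm _ _ i3 i4 p3 p4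
  have beqf : ∀ {a b : ℕ}, a = b → Nat.beq a b = false → False := fun e h => by
    rw [e, Nat.beq_refl] at h; exact Bool.noConfusion h
  rcases e1 with rfl | rfl
  · exact beqf (r1.eq_num l1 (by norm_num) Rep.one) c1
  rcases e2 with rfl | rfl
  · exact beqf (r2.eq_num l2 (by norm_num) Rep.one) c2
  · exact beqf (r1.eq_num l1 l2 r2) c3

/-- The stabiliser of 15 normalises no 2-subgroup of order above two. -/
theorem no_normal_two {T : Subgroup (V ≃ₗ[ZMod 2] V)} (hT : T ≤ autGroup C.M) (hp : IsPGroup 2 T)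
    (hfix : ∀ t ∈ T, t (C.M.e 15) = C.M.e 15)
    (hnorm : ∀ δ ∈ autGroup C.M, δ (C.M.e 15) = C.M.e 15 → ∀ t ∈ T, δ * t * δ⁻¹ ∈ T) : Nat.card T ≤ 2 := by
  classical
  haveI := finite_equiv (V := V)
  haveI : Fact (Nat.Prime 2) := ⟨Nat.prime_two⟩
  set A := autGroup C.M
  set St := MulAction.stabilizer A (C.M.e 15)
  obtain ⟨Φ, hΦ⟩ := stab_hom (Γ := A) (r := 0) C.M fun x => by
    obtain ⟨B, hB⟩ := LargeFischer.mem_autGroup.1 x.1.2
    have e : ∀ y < 4096, B.f y = numMap C.M x.1.1 y := fun y hy =>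
      C.M.inj _ (B.lt y hy) _ (numMap_spec C.M _ y).1 ((hB y hy).trans (numMap_spec C.M _ y).2.symm)
    refine ⟨{
      f := numMap C.M x.1.1
      lt := fun y _ => (numMap_spec C.M _ y).1
      inj := fun y hy w hw h => B.inj y hy w hw (by rw [e y hy, e w hw, h])
      add := fun y hy w hw => by rw [← e y hy, ← e w hw, ← e _ (xor_lt_pow hy hw), B.add y hy w hw]
      qn_f := fun y hy => by rw [← e y hy, B.qn_f y hy]
      small := fun y hy => by rw [← e y hy]; exact B.small y hy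
      twist := ?_ }, ?_, fun _ => rfl⟩
    · obtain ⟨s, hs, ht⟩ := B.twist
      exact ⟨s, hs, fun y hy => by rw [← e y hy, ← e _ (nmul_lt' hy), ht y hy]⟩
    · exact C.M.inj _ (numMap_spec C.M _ 15).1 15 (by norm_num) ((numMap_spec C.M _ 15).2.trans x.2)
  have hk : Nat.card Φ.ker ≤ 2 := by
    obtain ⟨g, hgA, -, -, hg⟩ := C.exists_tr (show 15 < 4096 by norm_num) t0_ok.2.2.1
    refine le_trans (Nat.card_le_card_of_injective (fun x : Φ.ker => decide (x.1 = 1)) fun x y h => ?_)
      (by simp)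
    simp only [decide_eq_decide] at h
    rcases hΦ x.1 (MonoidHom.mem_ker.1 x.2) with e | e
    · exact Subtype.ext (e.trans (h.1 e).symm)
    rcases hΦ y.1 (MonoidHom.mem_ker.1 y.2) with e' | e'
    · exact Subtype.ext ((h.2 e').trans e'.symm)
    exact Subtype.ext (Subtype.ext (Subtype.ext (IsTr.unique e e')))
  haveI : Finite (Forms.preservingFun (F := ZMod 2) (⇑qW)) := Nat.finite_of_card_ne_zero (by rw [card_O6]; norm_num)
  have hsurj : Function.Surjective Φ := by
    haveI : Fintype V := Fintype.ofFinite V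
    have horb : Nat.card (MulAction.orbit A (C.M.e 15)) ≤ 378 := by
      let S := ((Finset.range 4096).filter fun x => inSmall 0 x = true).image C.M.e
      have hsub : MulAction.orbit A (C.M.e 15) ⊆ (S : Set V) := by
        rintro _ ⟨g, rfl⟩
        obtain ⟨B, hB⟩ := LargeFischer.mem_autGroup.1 g.2
        refine Finset.mem_coe.2 (Finset.mem_image.2 ⟨B.f 15, Finset.mem_filter.2 ⟨Finset.mem_range.2 (B.lt 15 (by norm_num)), ?_⟩, hB 15 (by norm_num)⟩)
        rw [B.small 15 (by norm_num)]; exact small_fifteen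
      calc Nat.card (MulAction.orbit A (C.M.e 15)) ≤ Nat.card (S : Set V) := Nat.card_mono (Set.toFinite _) hsub
        _ = S.card := by simp
        _ ≤ _ := Finset.card_image_le.trans small_card
    haveI : Fintype A := Fintype.ofFinite _
    haveI : Fintype St := Fintype.ofFinite _
    haveI : Fintype (MulAction.orbit A (C.M.e 15)) := Fintype.ofFinite _
    have h := MulAction.card_orbit_mul_card_stabilizer_eq_card_group (G := A) (C.M.e 15)
    rw [← Nat.card_eq_fintype_card, ← Nat.card_eq_fintype_card, ← Nat.card_eq_fintype_card, C.card_aut] at h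
    have h2 := Subgroup.card_eq_card_quotient_mul_card_subgroup Φ.ker
    rw [Nat.card_congr (QuotientGroup.quotientKerEquivRange Φ).toEquiv] at h2
    refine MonoidHom.range_eq_top.1 (Subgroup.eq_top_of_le_card _ ?_)
    rw [card_O6]
    have h3 : 39191040 ≤ 378 * (Nat.card Φ.range * 2) := by
      rw [← h, h2]
      exact Nat.mul_le_mul horb (Nat.mul_le_mul_left _ hk)
    omega
  let Ts : Subgroup St := T.comap (A.subtype.comp St.subtype)
  haveI hTs : Ts.Normal := ⟨fun t ht δ => hnorm δ.1.1 δ.1.2 δ.2 _ ht⟩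
  have hTsp : IsPGroup 2 Ts := hp.comap_of_injective _ (A.subtype_injective.comp St.subtype_injective)
  set P := Ts.map Φ with hP
  haveI hPn : P.Normal := hTs.map Φ hsurj
  have hPp : IsPGroup 2 P := hTsp.map Φ
  let s27 := {v : W6 // qW v = 0 ∧ v ≠ 0}
  have hs27 : Nat.card s27 = 27 := by
    rw [← Nat.card_fin 27]
    refine (Nat.card_eq_of_bijective (fun i => (⟨V27 i, v27_singular i⟩ : s27))
      ⟨fun i j e => V27_injective (congrArg Subtype.val e), fun v => ?_⟩).symm
    obtain ⟨i, hi⟩ := v27_cover v.2.1 v.2.2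
    exact ⟨i, Subtype.ext hi⟩
  letI : MulAction P s27 :=
    { smul := fun g v => ⟨g.1.1 v.1, (g.1.2 v.1).trans v.2.1, fun e => v.2.2 (g.1.1.map_eq_zero_iff.1 e)⟩
      one_smul := fun v => Subtype.ext rfl
      mul_smul := fun g h v => Subtype.ext rfl }
  haveI : Finite s27 := Nat.finite_of_card_ne_zero (by rw [hs27]; norm_num)
  obtain ⟨v, hv⟩ := hPp.nonempty_fixed_point_of_prime_not_dvd_card s27 (by rw [hs27]; norm_num)
  obtain ⟨i, hi⟩ := v27_cover v.2.1 v.2.2
  have hall : ∀ g : P, ∀ j, g.1.1 (V27 j) = V27 j := by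
    intro g j
    obtain ⟨k, hk, hkj⟩ := o6_trans i j
    have h1 : ((⟨k, hk⟩ : Forms.preservingFun (F := ZMod 2) (⇑qW))⁻¹ * g.1 * ⟨k, hk⟩) ∈ P := by
      have := hPn.conj_mem g.1 g.2 (⟨k, hk⟩ : Forms.preservingFun (F := ZMod 2) (⇑qW))⁻¹
      rwa [inv_inv] at this
    have h2 : k.symm (g.1.1 (k v.1)) = v.1 := congrArg Subtype.val (hv ⟨_, h1⟩)
    rw [← hi, hkj] at h2
    have h3 := congrArg k h2
    rwa [k.apply_symm_apply, hkj] at h3
  have hP1 : ∀ g : P, g = 1 := fun g => Subtype.ext (Subtype.ext (eq_of_agree _ _ fun j => hall g j))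
  let f : T → Φ.ker := fun t => ⟨⟨⟨t.1, hT t.2⟩, hfix t.1 t.2⟩, MonoidHom.mem_ker.2
    (congrArg Subtype.val (hP1 ⟨_, Subgroup.mem_map_of_mem Φ (show (⟨⟨t.1, hT t.2⟩, hfix t.1 t.2⟩ : St) ∈ Ts from t.2)⟩))⟩
  exact (Nat.card_le_card_of_injective f fun a b e =>
    Subtype.ext (congrArg (fun x : Φ.ker => x.1.1.1) e)).trans hk

end Co

end Cfsg.Agent.Fi24ByInvol
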