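/-
An involution acting on an extraspecial group of order 2^13 with a fixed space of index 16 on the quotient by the
centre, whose commutators are singular (helper79).

* `orth_of_fix` : what is orthogonal to the fixed space is a commutator;
* `fix_facts` : the preimages of the commutators are central in the centraliser, with a bound for what commutes
  with it.
-/
import Cfsg.Agent.Lib.LargeExtraspecial.OutForm
import Cfsg.Agent.Lib.LargeExtraspecial.TransferFixed
import Cfsg.Agent.Lib.LargeFischer.OfType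

set_option autoImplicit false
set_option linter.unusedSectionVars false
set_option linter.style.haveILetI false

namespace Cfsg.Agent.Fi24ByInvol

open LargeExtraspecial QuadraticMap
open scoped commutatorElement

universe u

section Lin

variable {V : Type u} [AddCommGroup V] [Module (ZMod 2) V] [Finite V] {q : QuadraticForm (ZMod 2) V}

theorem two_self (v : V) : v + v = 0 := by
  rw [← two_smul (ZMod 2) v, show (2 : ZMod 2) = 0 from rfl, zero_smul]

/-- Twelve dimensions, eight fixed: the orthogonal of the fixed space is the space of commutators. -/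
theorem orth_of_fix (hq : (QuadraticMap.polarBilin q).Nondegenerate) (hV : Nat.card V = 4096)
    (s : V ≃ₗ[ZMod 2] V) (hs : ∀ v, s (s v) = v) (hqs : ∀ v, q (s v) = q v)
    (hfix : Nat.card {v : V // s v = v} = 256) :
    (∀ x v, s v = v → polar q (s x + x) v = 0) ∧ (∀ x, s (s x + x) = s x + x) ∧
      ∀ u, (∀ v, s v = v → polar q u v = 0) → ∃ x, s x + x = u := by
  haveI : Fintype V := Fintype.ofFinite V
  haveI : Module.Finite (ZMod 2) V := Module.Finite.of_finite
  have h1 : ∀ x v, s v = v → polar q (s x + x) v = 0 := by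
    intro x v hv
    have e : polar q (s x) v = polar q x v := by
      conv_lhs => rw [← hv]
      simp only [polar, ← map_add, hqs]
    rw [polar_add_left, e, ← two_mul, show (2 : ZMod 2) = 0 from rfl, zero_mul]
  refine ⟨h1, fun x => by rw [map_add, hs, add_comm], fun u hu => ?_⟩
  let f : V →ₗ[ZMod 2] V := s.toLinearMap + LinearMap.id
  have hker : ∀ v, v ∈ LinearMap.ker f ↔ s v = v := by
    intro v
    rw [LinearMap.mem_ker]
    show s v + v = 0 ↔ _
    exact ⟨fun h => by rw [← add_zero (s v), ← two_self v, ← add_assoc, h, zero_add],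
      fun h => by rw [h, two_self]⟩
  have hk : Module.finrank (ZMod 2) (LinearMap.ker f) = 8 := by
    haveI : Fintype (LinearMap.ker f) := Fintype.ofFinite _
    have h := Module.card_eq_pow_finrank (K := ZMod 2) (V := LinearMap.ker f)
    rw [← Nat.card_eq_fintype_card, ← Nat.card_eq_fintype_card, Nat.card_zmod,
      Nat.card_congr (Equiv.subtypeEquivRight hker), hfix, show (256 : ℕ) = 2 ^ 8 by norm_num] at h
    exact (Nat.pow_right_injective le_rfl h).symm
  have hV' : Module.finrank (ZMod 2) V = 12 := by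
    have h := Module.card_eq_pow_finrank (K := ZMod 2) (V := V)
    rw [← Nat.card_eq_fintype_card, ← Nat.card_eq_fintype_card, Nat.card_zmod, hV,
      show (4096 : ℕ) = 2 ^ 12 by norm_num] at h
    exact (Nat.pow_right_injective le_rfl h).symm
  have hr : Module.finrank (ZMod 2) (LinearMap.range f) = 4 := by
    have h := f.finrank_range_add_finrank_ker
    omega
  let B : LinearMap.BilinForm (ZMod 2) V := QuadraticMap.polarBilin q
  have ho := LinearMap.BilinForm.finrank_orthogonal (B := B) hq (LinearMap.ker f)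
  rw [hk, hV'] at ho
  have hle : LinearMap.range f ≤ B.orthogonal (LinearMap.ker f) := by
    rintro _ ⟨x, rfl⟩
    rw [LinearMap.BilinForm.mem_orthogonal_iff]
    intro v hv
    show polar q v (s x + x) = 0
    rw [polar_comm]; exact h1 x v ((hker v).1 hv)
  have heq : LinearMap.range f = B.orthogonal (LinearMap.ker f) :=
    Submodule.eq_of_le_of_finrank_eq hle (by rw [hr, ho])
  have hm : u ∈ B.orthogonal (LinearMap.ker f) := by
    rw [LinearMap.BilinForm.mem_orthogonal_iff]
    intro v hv
    show polar q v u = 0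
    rw [polar_comm]; exact hu v ((hker v).1 hv)
  rw [← heq] at hm
  exact hm

end Lin

variable {E : Type u} [Group E] [Finite E] [hE : Fact (Cfsg.IsExtraspecial 2 E)]

theorem card_comap_center (S : Subgroup (E ⧸ Subgroup.center E)) :
    Nat.card (S.comap (QuotientGroup.mk' (Subgroup.center E))) = 2 * Nat.card S := by
  have h1 := (S.comap (QuotientGroup.mk' (Subgroup.center E))).card_mul_index
  rw [Subgroup.index_comap_of_surjective _ (QuotientGroup.mk'_surjective _),
    Subgroup.card_eq_card_quotient_mul_card_subgroup (Subgroup.center E), hE.out.2, ← S.card_mul_index] at h1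
  refine Nat.eq_of_mul_eq_mul_right (Nat.pos_of_ne_zero S.index_ne_zero_of_finite) ?_
  rw [h1]; ring

/-- A subgroup is at most twice the stabiliser of an element it moves by one central involution only. -/
theorem half_centralizer {G : Type*} [Group G] [Finite G] (S : Subgroup G) {b w : G} (hw : w * w = 1)
    (hwc : ∀ p ∈ S, p * w * p⁻¹ = w) (h : ∀ p ∈ S, p * b * p⁻¹ = b ∨ p * b * p⁻¹ = b * w) :
    Nat.card S ≤ 2 * Nat.card ↥(S ⊓ Subgroup.centralizer ({b} : Set G)) := by
  refine OrderJTwo.card_le_two_mul S _ inf_le_left fun x hx y hy hx' hy' => ⟨mul_mem hx hy, ?_⟩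
  have hout : ∀ p ∈ S, p ∉ S ⊓ Subgroup.centralizer ({b} : Set G) → p * b * p⁻¹ = b * w := fun p hp hp' =>
    (h p hp).resolve_left fun e =>
      hp' ⟨hp, Subgroup.mem_centralizer_singleton_iff.2 (mul_inv_eq_iff_eq_mul.1 e)⟩
  refine Subgroup.mem_centralizer_singleton_iff.2 (mul_inv_eq_iff_eq_mul.1 ?_)
  calc x * y * b * (x * y)⁻¹ = x * (y * b * y⁻¹) * x⁻¹ := by group
    _ = x * b * x⁻¹ * (x * w * x⁻¹) := by rw [hout y hy hy']; group
    _ = b := by rw [hout x hx hx', hwc x hx, mul_assoc, hw, mul_one]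

/-- The centraliser and the subgroup over the commutators. -/
theorem fix_facts (hcard : Nat.card E = 2 ^ 13) (β : MulAut E) (hβ : ∀ x, β (β x) = x)
    (hfix : Nat.card {v : OutForm.Vm E // OutForm.actLin β v = v} = 256)
    (hsing : ∀ v, OutForm.qf E (OutForm.actLin β v + v) = 0) :
    ∃ Cq Rq : Subgroup E, (∀ p, p ∈ Cq ↔ β p = p) ∧ Rq ≤ Cq ∧ 256 ≤ Nat.card Cq ∧ Nat.card Rq = 32 ∧
      (∀ r ∈ Rq, ∀ c ∈ Cq, r * c = c * r) ∧ (∀ r ∈ Rq, r * r = 1) ∧
      (∀ r ∈ Rq, ∃ y c, c ∈ Subgroup.center E ∧ r = β y * y * c) ∧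
      ∀ B : Subgroup E, B ≤ Cq → (∀ b ∈ B, ∀ c ∈ Cq, b * c = c * b) →
        Nat.card B ≤ 2 * Nat.card ↥(B ⊓ Rq) := by
  classical
  set s := OutForm.actLin β with hs
  have hsp : ∀ x : E, s (OutForm.pr x) = OutForm.pr (β x) := OutForm.actLin_pr β
  have hss : ∀ v, s (s v) = v := fun v => by
    obtain ⟨x, rfl⟩ := OutForm.pr_surjective v; rw [hsp, hsp, hβ]
  have hsq : ∀ v, OutForm.qf E (s v) = OutForm.qf E v := fun v => by
    obtain ⟨x, rfl⟩ := OutForm.pr_surjective v; rw [hsp, OutForm.qf_apply, OutForm.qf_apply, ← map_mul, OutForm.eps_map]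
  have hV : Nat.card (OutForm.Vm E) = 4096 := by
    rw [OutForm.card_Vm (n := 6) (by rw [hcard])]
    norm_num
  obtain ⟨horth, hWfix, hperp⟩ := orth_of_fix OutForm.qf_nondegenerate hV s hss hsq hfix
  have hcomm : ∀ x y : E, polar (OutForm.qf E) (OutForm.pr x) (OutForm.pr y) = 0 ↔ x * y = y * x := by
    intro x y
    rw [show polar (OutForm.qf E) (OutForm.pr x) (OutForm.pr y) = OutForm.eps ⁅x, y⁆ from OutForm.polar_pr x y,
      ← commutatorElement_eq_one_iff_mul_comm]
    exact ⟨fun h => OutForm.eps_inj (OutForm.comm_mem x y) (one_mem _) (h.trans OutForm.eps_one.symm),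
      fun h => by rw [h, OutForm.eps_one]⟩
  have hβc : ∀ c ∈ Subgroup.center E, β c = c := by
    intro c hc
    have hc' : β c ∈ Subgroup.center E := Subgroup.mem_center_iff.2 fun y => by
      obtain ⟨y, rfl⟩ := β.surjective y
      rw [← map_mul, ← map_mul, Subgroup.mem_center_iff.1 hc y]
    exact OutForm.eps_inj hc' hc (OutForm.eps_map β c)
  -- the three subgroups
  let Cq : Subgroup E := MonoidHom.eqLocus β.toMonoidHom (MonoidHom.id E)
  have hCq : ∀ p, p ∈ Cq ↔ β p = p := fun _ => Iff.rfl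
  let Fb : Subgroup (E ⧸ Subgroup.center E) :=
    { carrier := {x | s (Additive.ofMul x) = Additive.ofMul x}
      one_mem' := map_zero s
      mul_mem' := fun {a b} ha hb => by
        show s (Additive.ofMul a + Additive.ofMul b) = _
        rw [map_add, ha, hb]; rfl
      inv_mem' := fun {a} ha => by
        show s (-Additive.ofMul a) = _
        rw [map_neg, ha]; rfl }
  let Wb : Subgroup (E ⧸ Subgroup.center E) :=
    { carrier := {x | ∃ v, s v + v = Additive.ofMul x}
      one_mem' := ⟨0, by rw [map_zero, add_zero]; rfl⟩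
      mul_mem' := fun {a b} ha hb => by
        obtain ⟨v, hv⟩ := ha
        obtain ⟨w, hw⟩ := hb
        exact ⟨v + w, by rw [map_add, add_add_add_comm, hv, hw]; rfl⟩
      inv_mem' := fun {a} ha => by
        obtain ⟨v, hv⟩ := ha
        exact ⟨-v, by rw [map_neg, ← neg_add, hv]; rfl⟩ }
  set Pq := Fb.comap (QuotientGroup.mk' (Subgroup.center E))
  set Rq := Wb.comap (QuotientGroup.mk' (Subgroup.center E))
  have hPq : ∀ p, p ∈ Pq ↔ s (OutForm.pr p) = OutForm.pr p := fun _ => Iff.rfl
  have hRq : ∀ p, p ∈ Rq ↔ ∃ v, s v + v = OutForm.pr p := fun _ => Iff.rfl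
  have hFb : Nat.card Fb = 256 := by
    rw [← hfix]
    exact Nat.card_congr ((Additive.ofMul (α := E ⧸ Subgroup.center E)).subtypeEquiv fun x => Iff.rfl)
  have hWb : Nat.card Wb = 16 := by
    let f : OutForm.Vm E →+ OutForm.Vm E := s.toAddEquiv.toAddMonoidHom + AddMonoidHom.id _
    have h1 : Nat.card Wb = Nat.card f.range :=
      Nat.card_congr ((Additive.ofMul (α := E ⧸ Subgroup.center E)).subtypeEquiv fun x => Iff.rfl)
    have h2 : Nat.card f.ker = 256 := by
      rw [← hfix]
      refine Nat.card_congr (Equiv.subtypeEquivRight fun v => ?_)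
      show s v + v = 0 ↔ s v = v
      exact ⟨fun h => by rw [← add_zero (s v), ← two_self v, ← add_assoc, h, zero_add],
        fun h => by rw [h, two_self]⟩
    have h3 := f.ker.card_mul_index
    rw [h2, AddSubgroup.index_ker, hV] at h3
    rw [h1]; omega
  have hRP : Rq ≤ Pq := fun p hp => by
    obtain ⟨v, hv⟩ := (hRq p).1 hp
    rw [hPq, ← hv]; exact hWfix v
  have hRperm : ∀ r ∈ Rq, ∀ c ∈ Pq, r * c = c * r := by
    intro r hr c hc
    obtain ⟨v, hv⟩ := (hRq r).1 hr
    rw [← hcomm, ← hv]; exact horth v _ ((hPq c).1 hc)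
  have hR2 : ∀ r ∈ Rq, r * r = 1 := by
    intro r hr
    obtain ⟨v, hv⟩ := (hRq r).1 hr
    have h := hsing v
    rw [hv, OutForm.qf_apply] at h
    exact OutForm.eps_inj (OutForm.sq_mem r) (one_mem _) (h.trans OutForm.eps_one.symm)
  have hRform : ∀ r ∈ Rq, ∃ y c, c ∈ Subgroup.center E ∧ r = β y * y * c := by
    intro r hr
    obtain ⟨v, hv⟩ := (hRq r).1 hr
    obtain ⟨y, rfl⟩ := OutForm.pr_surjective v
    rw [hsp, ← OutForm.pr_mul] at hv
    obtain ⟨c, hc, e⟩ := OutForm.eq_mul_center hv.symm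
    exact ⟨y, c, hc, e⟩
  have hRC : Rq ≤ Cq := by
    intro r hr
    obtain ⟨y, c, hc, rfl⟩ := hRform r hr
    have hm : (β y * y) * (β y * y) = 1 := by
      have h := hR2 _ hr
      rwa [mul_assoc (β y * y) c, ← mul_assoc c, ← Subgroup.mem_center_iff.1 hc, mul_assoc (β y * y) c,
        OutForm.sq_one_of_center hc, mul_one] at h
    have hy2 : β (y * y) = y * y := hβc _ (OutForm.sq_mem y)
    rw [hCq, map_mul, map_mul, hβ, hβc c hc]
    congr 1
    have e1 : y * β y * (β y * y) = (y * y) * (β y * β y) := by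
      rw [show y * β y * (β y * y) = y * (β y * β y) * y by group,
        mul_assoc y (β y * β y), ← Subgroup.mem_center_iff.1 (OutForm.sq_mem (β y)) y, ← mul_assoc]
    rw [← map_mul, hy2, OutForm.sq_one_of_center (OutForm.sq_mem y)] at e1
    exact mul_right_cancel (e1.trans hm.symm)
  have hCP : Cq ≤ Pq := fun p hp => by rw [hPq, hsp, (hCq p).1 hp]
  have hhalf : Nat.card Pq ≤ 2 * Nat.card Cq := by
    refine OrderJTwo.card_le_two_mul Pq Cq hCP fun x hx y hy hx' hy' => (hCq _).2 ?_
    have hout : ∀ p ∈ Pq, p ∉ Cq → β p = p * OutForm.zeta E := fun p hp hp' => by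
      obtain ⟨c, hc, e⟩ := OutForm.eq_mul_center ((hsp p).symm.trans ((hPq p).1 hp))
      rcases OutForm.zeta_cases hc with rfl | rfl
      · exact absurd ((hCq p).2 (by rw [e, mul_one])) hp'
      · exact e
    have hzc := Subgroup.mem_center_iff.1 (OutForm.zeta_mem (E := E))
    rw [map_mul, hout x hx hx', hout y hy hy', mul_assoc x, ← mul_assoc (OutForm.zeta E) y, ← hzc y,
      mul_assoc y, OutForm.zeta_sq, mul_one]
  have hPc : Nat.card Pq = 512 := by rw [card_comap_center, hFb]
  refine ⟨Cq, Rq, hCq, hRC, by omega, by rw [card_comap_center, hWb], fun r hr c hc => hRperm r hr c (hCP hc),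
    hR2, hRform, fun B hB hBc => ?_⟩
  obtain ⟨p0, hp0, hp0'⟩ : ∃ p0 ∈ Pq, ∀ x ∈ Pq, x ∈ Cq ∨ ∃ c ∈ Cq, x = p0 * c := by
    by_cases h : Pq ≤ Cq
    · exact ⟨1, one_mem _, fun x hx => Or.inl (h hx)⟩
    · obtain ⟨p0, hp, hn⟩ := SetLike.not_le_iff_exists.1 h
      refine ⟨p0, hp, fun x hx => (em (x ∈ Cq)).imp id fun hxn => ⟨p0⁻¹ * x, ?_, (mul_inv_cancel_left p0 x).symm⟩⟩
      have hout : ∀ p ∈ Pq, p ∉ Cq → β p = p * OutForm.zeta E := fun p hp hp' => by
        obtain ⟨c, hc, e⟩ := OutForm.eq_mul_center ((hsp p).symm.trans ((hPq p).1 hp))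
        rcases OutForm.zeta_cases hc with rfl | rfl
        · exact absurd ((hCq p).2 (by rw [e, mul_one])) hp'
        · exact e
      rw [hCq, map_mul, map_inv, hout p0 hp hn, hout x hx hxn, mul_inv_rev]
      calc (OutForm.zeta E)⁻¹ * p0⁻¹ * (x * OutForm.zeta E)
          = (OutForm.zeta E)⁻¹ * (p0⁻¹ * x * OutForm.zeta E) := by group
        _ = _ := by rw [Subgroup.mem_center_iff.1 (OutForm.zeta_mem (E := E)), inv_mul_cancel_left]
  have hk := half_centralizer B (b := p0) (w := OutForm.zeta E) OutForm.zeta_sq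
    (fun p _ => by rw [Subgroup.mem_center_iff.1 (OutForm.zeta_mem (E := E)) p, mul_inv_cancel_right])
    (fun p _ => by
      rcases OutForm.zeta_cases (OutForm.comm_mem p p0) with h | h
      · left; rw [commutatorElement_eq_one_iff_mul_comm] at h; rw [h, mul_inv_cancel_right]
      · right
        rw [Subgroup.mem_center_iff.1 (OutForm.zeta_mem (E := E)) p0, ← h, commutatorElement_def]
        group)
  refine hk.trans (Nat.mul_le_mul_left 2 (Subgroup.card_le_of_le fun b hb => ⟨hb.1, ?_⟩))
  have hbp : b * p0 = p0 * b := Subgroup.mem_centralizer_singleton_iff.1 hb.2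
  refine (hRq b).2 (hperp _ fun v hv => ?_)
  obtain ⟨x, rfl⟩ := OutForm.pr_surjective v
  rw [hcomm]
  rcases hp0' x ((hPq x).2 hv) with hx | ⟨c, hc, rfl⟩
  · exact hBc b hb.1 x hx
  · rw [← mul_assoc, hbp, mul_assoc, hBc b hb.1 c hc, ← mul_assoc]

end Cfsg.Agent.Fi24ByInvol
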