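/-
An involution whose centraliser has the coordinates of large Fischer type, with no outer involution, is isolated
(helper79).

* `Sd` : the extraspecial group inside the whole group and its conjugate;
* `no_conj_mem` : no other conjugate lies in the extraspecial group;
* `isolated` : the involution commutes with no other conjugate.
-/
import Cfsg.Agent.Lib.Fi24ByInvol.Base
import Cfsg.Agent.Lib.Fi24ByInvol.InnerLocal

set_option autoImplicit false
set_option linter.unusedSectionVars false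
set_option linter.style.haveILetI false

namespace Cfsg.Agent.Fi24ByInvol

open LargeExtraspecial LargeFischer
open scoped commutatorElement

universe u

variable {X : Type u} [Group X] [Finite X]

/-- A group with the rules of an extraspecial group of order 2^13 in the centraliser of `z`. -/
structure Sd (E : Subgroup X) (z : X) : Prop where
  set : TransferFixed.Setting (Subgroup.centralizer ({z} : Set X)) E z
  card : Nat.card E = 2 ^ 13
  abelian : ∀ B ≤ E, (∀ a ∈ B, ∀ b ∈ B, a * b = b * a) → Nat.card B ≤ 128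

/-- The conjugate group. -/
abbrev cj (g : X) (E : Subgroup X) : Subgroup X := E.map (MulAut.conj g).toMonoidHom

theorem mem_cj {g x : X} {E : Subgroup X} : x ∈ cj g E ↔ g⁻¹ * x * g ∈ E := by
  constructor
  · rintro ⟨y, hy, rfl⟩
    show g⁻¹ * (g * y * g⁻¹) * g ∈ E
    rwa [show g⁻¹ * (g * y * g⁻¹) * g = y by group]
  · exact fun h => ⟨_, h, show g * (g⁻¹ * x * g) * g⁻¹ = x by group⟩

theorem card_cj (g : X) (E : Subgroup X) : Nat.card (cj g E) = Nat.card E :=
  (Nat.card_congr (E.equivMapOfInjective _ (MulAut.conj g).injective).toEquiv).symm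

theorem Sd.conj {E : Subgroup X} {z : X} (h : Sd E z) (g : X) : Sd (cj g E) (g * z * g⁻¹) := by
  have hcomm : ∀ {x y : X}, Commute x y → Commute (g * x * g⁻¹) (g * y * g⁻¹) := fun e =>
    e.map (MulAut.conj g).toMonoidHom
  have hback : ∀ {x y : X}, Commute x y → Commute (g⁻¹ * x * g) (g⁻¹ * y * g) := fun {x y} e => by
    simpa using e.map (MulAut.conj g⁻¹).toMonoidHom
  have hH : ∀ x, x ∈ Subgroup.centralizer ({g * z * g⁻¹} : Set X) → g⁻¹ * x * g ∈ Subgroup.centralizer ({z} : Set X) :=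
    fun x hx => by
      have := hback (show Commute x (g * z * g⁻¹) from Subgroup.mem_centralizer_singleton_iff.1 hx)
      rw [show g⁻¹ * (g * z * g⁻¹) * g = z by group] at this
      exact Subgroup.mem_centralizer_singleton_iff.2 this.eq
  refine ⟨⟨?_, fun x => Subgroup.mem_centralizer_singleton_iff, ?_, mem_cj.2 ?_, ?_, ?_, ?_, ?_, ?_, ?_, ?_⟩,
    (card_cj g E).trans h.card, ?_⟩
  · rintro _ ⟨x, hx, rfl⟩
    exact Subgroup.mem_centralizer_singleton_iff.2
      (hcomm (show Commute x z from (h.set.hH x).1 (h.set.hEH hx))).eq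
  · intro c hc e he
    rw [mem_cj] at he ⊢
    have := h.set.hnorm _ (hH c hc) _ he
    rwa [show g⁻¹ * c * g * (g⁻¹ * e * g) * (g⁻¹ * c * g)⁻¹ = g⁻¹ * (c * e * c⁻¹) * g by group] at this
  · rw [show g⁻¹ * (g * z * g⁻¹) * g = z by group]; exact h.set.zE
  · rw [show g * z * g⁻¹ * (g * z * g⁻¹) = g * (z * z) * g⁻¹ by group, h.set.z2, mul_one, mul_inv_cancel]
  · exact fun e => h.set.z1 (by
      calc z = g⁻¹ * (g * z * g⁻¹) * g := by group
        _ = 1 := by rw [e]; group)
  · rintro _ ⟨a, ha, rfl⟩ _ ⟨b, hb, rfl⟩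
    show g * a * g⁻¹ * (g * b * g⁻¹) = g * b * g⁻¹ * (g * a * g⁻¹) ∨
      g * a * g⁻¹ * (g * b * g⁻¹) = g * b * g⁻¹ * (g * a * g⁻¹) * (g * z * g⁻¹)
    rcases h.set.comm a ha b hb with e | e
    · left
      rw [show g * a * g⁻¹ * (g * b * g⁻¹) = g * (a * b) * g⁻¹ by group, e]; group
    · right
      rw [show g * a * g⁻¹ * (g * b * g⁻¹) = g * (a * b) * g⁻¹ by group, e]; group
  · rintro _ ⟨a, ha, rfl⟩
    show g * a * g⁻¹ * (g * a * g⁻¹) = 1 ∨ g * a * g⁻¹ * (g * a * g⁻¹) = g * z * g⁻¹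
    rw [show g * a * g⁻¹ * (g * a * g⁻¹) = g * (a * a) * g⁻¹ by group]
    rcases h.set.sq a ha with e | e <;> rw [e]
    · left; group
    · exact Or.inr rfl
  · intro x hx
    refine mem_cj.2 (h.set.self (Subgroup.mem_centralizer_iff.2 fun e he => ?_))
    have h1 : Commute (g * e * g⁻¹) x :=
      Subgroup.mem_centralizer_iff.1 hx _ (mem_cj.2 (by rwa [show g⁻¹ * (g * e * g⁻¹) * g = e by group]))
    have h2 := hback h1
    rw [show g⁻¹ * (g * e * g⁻¹) * g = e by group] at h2
    exact h2.eq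
  · rintro _ ⟨a, ha, rfl⟩ hc
    rcases h.set.cen a ha (fun b hb => by
      have := hback (show Commute (g * a * g⁻¹) (g * b * g⁻¹) from hc _ ⟨b, hb, rfl⟩)
      rwa [show g⁻¹ * (g * a * g⁻¹) * g = a by group, show g⁻¹ * (g * b * g⁻¹) * g = b by group] at this) with e | e
    · left; show g * a * g⁻¹ = 1; rw [e]; group
    · right; show g * a * g⁻¹ = _; rw [e]
  · exact h.set.isP.map _
  · intro B hB hab
    have hB' : B.map (MulAut.conj g⁻¹).toMonoidHom ≤ E := by
      rintro _ ⟨b, hb, rfl⟩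
      show g⁻¹ * b * g⁻¹⁻¹ ∈ E
      rw [inv_inv]; exact mem_cj.1 (hB hb)
    rw [← card_cj g⁻¹ B]
    refine h.abelian _ hB' ?_
    rintro _ ⟨a, ha, rfl⟩ _ ⟨b, hb, rfl⟩
    exact ((show Commute a b from hab a ha b hb).map (MulAut.conj g⁻¹).toMonoidHom).eq

section Image

variable {z : X}

/-- The image of a 2-subgroup in the action on the quotient. -/
theorem exists_image (Q : Subgroup (Subgroup.centralizer ({z} : Set X))) [Q.Normal]
    [Fact (Cfsg.IsExtraspecial 2 Q)] (hker : (toGL Q).ker = Q) (S : Subgroup X)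
    (hS : S ≤ Subgroup.centralizer ({z} : Set X)) (hp : IsPGroup 2 S) :
    ∃ T : Subgroup (OutForm.Vm Q ≃ₗ[ZMod 2] OutForm.Vm Q), T ≤ (toGL Q).range ∧ IsPGroup 2 T ∧
      Nat.card S = Nat.card T * Nat.card ↥(S ⊓ Q.map (Subgroup.centralizer ({z} : Set X)).subtype) ∧
      (∀ t ∈ T, ∃ (x : X) (hx : x ∈ S), toGL Q ⟨x, hS hx⟩ = t) ∧
      ∀ (x : X) (hx : x ∈ S), toGL Q ⟨x, hS hx⟩ ∈ T := by
  set f := (toGL Q).comp (Subgroup.inclusion hS) with hf
  refine ⟨f.range, ?_, ?_, ?_, ?_, fun x hx => ⟨⟨x, hx⟩, rfl⟩⟩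
  · rw [hf, MonoidHom.range_comp]; exact Subgroup.map_le_range _ _
  · exact hp.of_surjective f.rangeRestrict f.rangeRestrict_surjective
  · have hk : f.ker = (S ⊓ Q.map (Subgroup.centralizer ({z} : Set X)).subtype).subgroupOf S := by
      ext x
      rw [hf, ← MonoidHom.comap_ker, hker, Subgroup.mem_comap, Subgroup.mem_subgroupOf, Subgroup.mem_inf]
      refine ⟨fun h => ⟨x.2, _, h, rfl⟩, fun h => ?_⟩
      obtain ⟨y, hy, e⟩ := h.2
      rwa [show Subgroup.inclusion hS x = y from Subtype.ext e.symm]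
    rw [Subgroup.card_eq_card_quotient_mul_card_subgroup f.ker,
      Nat.card_congr (QuotientGroup.quotientKerEquivRange f).toEquiv, hk,
      Nat.card_congr (Subgroup.subgroupOfEquivOfLe inf_le_left).toEquiv]
  · rintro _ ⟨⟨x, hx⟩, rfl⟩
    exact ⟨x, hx, rfl⟩

/-- Commutators and squares in the kernel give an elementary abelian image. -/
theorem image_comm (Q : Subgroup (Subgroup.centralizer ({z} : Set X))) [Q.Normal]
    [Fact (Cfsg.IsExtraspecial 2 Q)] (hker : (toGL Q).ker = Q) {x y : X}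
    (hx : x ∈ Subgroup.centralizer ({z} : Set X)) (hy : y ∈ Subgroup.centralizer ({z} : Set X))
    (h : x * y * x⁻¹ * y⁻¹ ∈ Q.map (Subgroup.centralizer ({z} : Set X)).subtype) :
    toGL Q ⟨x, hx⟩ * toGL Q ⟨y, hy⟩ = toGL Q ⟨y, hy⟩ * toGL Q ⟨x, hx⟩ := by
  obtain ⟨w, hw, e⟩ := h
  rw [← mul_inv_eq_one, mul_inv_rev, ← mul_assoc, ← map_inv, ← map_inv, ← map_mul, ← map_mul, ← map_mul,
    ← MonoidHom.mem_ker, hker]
  rwa [show (⟨x, hx⟩ * ⟨y, hy⟩ * ⟨x, hx⟩⁻¹ * ⟨y, hy⟩⁻¹ : Subgroup.centralizer ({z} : Set X)) = w from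
    Subtype.ext e.symm]

theorem image_sq (Q : Subgroup (Subgroup.centralizer ({z} : Set X))) [Q.Normal]
    [Fact (Cfsg.IsExtraspecial 2 Q)] (hker : (toGL Q).ker = Q) {x : X}
    (hx : x ∈ Subgroup.centralizer ({z} : Set X))
    (h : x * x ∈ Q.map (Subgroup.centralizer ({z} : Set X)).subtype) :
    toGL Q ⟨x, hx⟩ * toGL Q ⟨x, hx⟩ = 1 := by
  obtain ⟨w, hw, e⟩ := h
  rw [← map_mul, ← MonoidHom.mem_ker, hker]
  rwa [show (⟨x, hx⟩ * ⟨x, hx⟩ : Subgroup.centralizer ({z} : Set X)) = w from Subtype.ext e.symm]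

/-- The extraspecial group in the whole group. -/
theorem sd_of (hz : orderOf z = 2) (Q : Subgroup (Subgroup.centralizer ({z} : Set X))) [Q.Normal]
    (hex : Cfsg.IsExtraspecial 2 Q) (hcard : Nat.card Q = 2 ^ 13)
    (hcent : Subgroup.centralizer (Q : Set (Subgroup.centralizer ({z} : Set X))) ≤ Q) :
    Sd (Q.map (Subgroup.centralizer ({z} : Set X)).subtype) z ∧
      ∀ c ∈ Subgroup.center Q, ((c : Subgroup.centralizer ({z} : Set X)) : X) = 1 ∨
        ((c : Subgroup.centralizer ({z} : Set X)) : X) = z := by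
  haveI : Fact (Nat.Prime 2) := ⟨Nat.prime_two⟩
  set E := Q.map (Subgroup.centralizer ({z} : Set X)).subtype
  have hH : ∀ g, g ∈ (Subgroup.centralizer ({z} : Set X)) ↔ g * z = z * g := fun g => Subgroup.mem_centralizer_singleton_iff
  have hzH : (⟨z, (hH z).2 rfl⟩ : (Subgroup.centralizer ({z} : Set X))) ∈ Q := hcent (Subgroup.mem_centralizer_iff.2 fun h _ =>
    Subtype.ext ((hH h).1 h.2))
  have hz2 : z * z = 1 := by rw [← pow_two, ← hz, pow_orderOf_eq_one]
  have hz1 : z ≠ 1 := fun h => by simp [h] at hz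
  have hzc : (⟨_, hzH⟩ : Q) ∈ Subgroup.center Q :=
    Subgroup.mem_center_iff.2 fun g => Subtype.ext (Subtype.ext ((hH _).1 (g : (Subgroup.centralizer ({z} : Set X))).2))
  have hcen : ∀ c ∈ Subgroup.center Q, ((c : (Subgroup.centralizer ({z} : Set X))) : X) = 1 ∨ ((c : (Subgroup.centralizer ({z} : Set X))) : X) = z := by
    intro w hw
    have huniq := (Nat.card_eq_two_iff' (1 : Subgroup.center Q)).1 hex.2
    by_cases h : (⟨w, hw⟩ : Subgroup.center Q) = 1
    · exact Or.inl (congrArg (fun w : Subgroup.center Q => (((w : Q) : (Subgroup.centralizer ({z} : Set X))) : X)) h)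
    · exact Or.inr (congrArg (fun w : Subgroup.center Q => (((w : Q) : (Subgroup.centralizer ({z} : Set X))) : X))
        (huniq.unique h (show (⟨_, hzc⟩ : Subgroup.center Q) ≠ 1 from fun e =>
          hz1 (congrArg (fun w : Subgroup.center Q => (((w : Q) : (Subgroup.centralizer ({z} : Set X))) : X)) e))))
  have hEH : E ≤ (Subgroup.centralizer ({z} : Set X)) := Subgroup.map_subtype_le _
  refine ⟨⟨⟨hEH, hH, ?_, ⟨_, hzH, rfl⟩, hz2, hz1, ?_, ?_, ?_, ?_, hex.1.1.map _⟩, ?_, ?_⟩, hcen⟩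
  · rintro g hg _ ⟨q, hq, rfl⟩
    exact ⟨⟨g, hg⟩ * q * ⟨g, hg⟩⁻¹, ‹Q.Normal›.conj_mem q hq _, rfl⟩
  · rintro _ ⟨a, ha, rfl⟩ _ ⟨b, hb, rfl⟩
    have h' := hcen _ (Extraspecial.commutatorElement_mem_center hex ⟨a, ha⟩ ⟨b, hb⟩)
    have hd : (((⁅(⟨a, ha⟩ : Q), ⟨b, hb⟩⁆ : Q) : (Subgroup.centralizer ({z} : Set X))) : X) = (a : X) * b * (a : X)⁻¹ * (b : X)⁻¹ := rfl
    rw [hd] at h'
    show (a : X) * b = b * a ∨ (a : X) * b = b * a * z
    rcases h' with h | h
    · left
      calc (a : X) * b = a * b * (a : X)⁻¹ * (b : X)⁻¹ * (b * a) := by group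
        _ = _ := by rw [h, one_mul]
    · right
      calc (a : X) * b = a * b * (a : X)⁻¹ * (b : X)⁻¹ * (b * a) := by group
        _ = _ := by rw [h, ← (hH _).1 (mul_mem b.2 a.2)]
  · rintro _ ⟨a, ha, rfl⟩
    have h := hcen _ (Extraspecial.pow_mem_center hex ⟨a, ha⟩)
    rw [Subgroup.coe_pow, Subgroup.coe_pow, pow_two] at h
    exact h
  · intro x hx
    have hxH : x ∈ (Subgroup.centralizer ({z} : Set X)) := (hH x).2 (Subgroup.mem_centralizer_iff.1 hx z ⟨_, hzH, rfl⟩).symm
    exact ⟨⟨x, hxH⟩, hcent (Subgroup.mem_centralizer_iff.2 fun q hq =>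
      Subtype.ext (Subgroup.mem_centralizer_iff.1 hx _ ⟨q, hq, rfl⟩)), rfl⟩
  · rintro _ ⟨a, ha, rfl⟩ hc
    exact hcen ⟨a, ha⟩ (Subgroup.mem_center_iff.2 fun g =>
      Subtype.ext (Subtype.ext (hc _ ⟨g, g.2, rfl⟩).symm))
  · rw [← hcard]
    exact (Nat.card_congr (Q.equivMapOfInjective _ (Subgroup.centralizer ({z} : Set X)).subtype_injective).toEquiv).symm
  · intro B hB hab
    set B' := (B.subgroupOf (Subgroup.centralizer ({z} : Set X))).subgroupOf Q
    have hcardB : Nat.card B' = Nat.card B := by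
      have h1 : B.subgroupOf (Subgroup.centralizer ({z} : Set X)) ≤ Q := fun x hx => by
        obtain ⟨q, hq, e⟩ := hB hx
        rwa [show x = q from Subtype.ext e.symm]
      rw [Nat.card_congr (Subgroup.subgroupOfEquivOfLe h1).toEquiv,
        Nat.card_congr (Subgroup.subgroupOfEquivOfLe (hB.trans hEH)).toEquiv]
    have h2 := Extraspecial.card_abelian_sq_le hex (A := B') (fun a ha b hb =>
      Subtype.ext (Subtype.ext (hab _ ha _ hb)))
    rw [hcardB, hcard] at h2
    by_contra hlt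
    push Not at hlt
    have := Nat.mul_le_mul (Nat.succ_le_of_lt hlt) (Nat.succ_le_of_lt hlt)
    norm_num at this h2
    omega

variable (Q : Subgroup (Subgroup.centralizer ({z} : Set X))) [Q.Normal] [Fact (Cfsg.IsExtraspecial 2 Q)]

/-- The only conjugate inside is the involution itself. -/
theorem no_conj_mem (hS : Sd (Q.map (Subgroup.centralizer ({z} : Set X)).subtype) z) (hker : (toGL Q).ker = Q)
    (hF : Facts (OutForm.qf Q) (toGL Q).range) {g : X}
    (hg : g * z * g⁻¹ ∈ Q.map (Subgroup.centralizer ({z} : Set X)).subtype) : g * z * g⁻¹ = z := by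
  haveI : Fact (Nat.Prime 2) := ⟨Nat.prime_two⟩
  by_contra hne
  set E := Q.map (Subgroup.centralizer ({z} : Set X)).subtype with hE
  set a := g * z * g⁻¹ with ha
  have hS' := hS.conj g
  set E' := cj g E
  have S := hS.set
  have S' := hS'.set
  have haz : Commute a z := (S.hH a).1 (S.hEH hg)
  have hzE' : z ∈ E' := by
    by_contra hz'
    set P := E ⊓ Subgroup.centralizer ({a} : Set X) with hP
    have hPc : Nat.card E ≤ 2 * Nat.card P := half_centralizer E (b := a) (w := z) S.z2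
      (fun p hp => by rw [(S.hH p).1 (S.hEH hp), mul_inv_cancel_right]) (fun p hp => by
        rcases S.comm p hp a hg with e | e
        · left; rw [e, mul_inv_cancel_right]
        · right; rw [e, mul_assoc a p z, (S.hH p).1 (S.hEH hp), ← mul_assoc, mul_inv_cancel_right])
    set B := P ⊓ E' with hB
    have hBc : ∀ b ∈ B, ∀ p ∈ P, p * b = b * p := by
      intro b hb p hp
      rcases S.comm p hp.1 b hb.1.1 with e | e
      · exact e
      · exfalso
        refine hz' ?_
        have h1 : p * b * p⁻¹ ∈ E' := S'.hnorm p hp.2 b hb.2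
        have h2 : b⁻¹ * (p * b * p⁻¹) = z := by
          rw [e, mul_assoc b p z, (S.hH p).1 (S.hEH hp.1)]; group
        exact h2 ▸ mul_mem (inv_mem hb.2) h1
    have hza : z * a ∉ E' := fun h => hz' (by
      have := mul_mem h (inv_mem S'.zE)
      rwa [mul_inv_cancel_right] at this)
    have hB2 : B ≤ Subgroup.zpowers a := by
      intro b hb
      obtain ⟨p0, hp0, hp0'⟩ : ∃ p0 ∈ E, a * p0 ≠ p0 * a := by
        by_contra h
        push Not at h
        rcases S.cen a hg h with e | e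
        · exact S'.z1 e
        · exact hne e
      have hcov : ∀ x ∈ E, x ∈ P ∨ ∃ p ∈ P, x = p0 * p := by
        intro x hx
        refine (em (x ∈ P)).imp id fun hxP => ⟨p0⁻¹ * x, ⟨E.mul_mem (E.inv_mem hp0) hx, ?_⟩,
          (mul_inv_cancel_left p0 x).symm⟩
        have e1 : x * a = a * x * z := (S.comm x hx a hg).resolve_left fun e =>
          hxP ⟨hx, Subgroup.mem_centralizer_singleton_iff.2 e⟩
        have e2 : p0 * a = a * p0 * z := (S.comm p0 hp0 a hg).resolve_left fun e => hp0' e.symm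
        refine Subgroup.mem_centralizer_singleton_iff.2 (mul_left_cancel (a := p0) ?_)
        have hzx : x * z = z * x := (S.hH x).1 (S.hEH hx)
        calc p0 * (p0⁻¹ * x * a) = a * x * z := by rw [← e1]; group
          _ = a * p0 * z * (p0⁻¹ * x) := by
            rw [mul_assoc (a * p0), ← mul_assoc z, ← (S.hH p0⁻¹).1 (S.hEH (inv_mem hp0))]
            rw [mul_assoc p0⁻¹, ← hzx]
            group
          _ = p0 * (a * (p0⁻¹ * x)) := by rw [← e2]; group
      have key : ∀ c ∈ E, (∀ p ∈ P, p * c = c * p) → Commute c p0 → c = 1 ∨ c = z := by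
        intro c hc hcP hc0
        refine S.cen c hc fun x hx => ?_
        rcases hcov x hx with h | ⟨p, hp, rfl⟩
        · exact (hcP x h).symm
        · exact (hc0.mul_right (show Commute c p from (hcP p hp).symm)).eq
      have ha2 : a * a = 1 := S'.z2
      rcases S.comm b hb.1.1 p0 hp0 with e | e
      · rcases key b hb.1.1 (hBc b hb) e with rfl | rfl
        · exact one_mem _
        · exact absurd hb.2 hz'
      · have h2 : b * a = 1 ∨ b * a = z := by
          refine key _ (mul_mem hb.1.1 hg) (fun p hp => ?_) ?_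
          · calc p * (b * a) = p * b * a := (mul_assoc _ _ _).symm
              _ = b * (p * a) := by rw [hBc b hb p hp, mul_assoc]
              _ = b * a * p := by rw [Subgroup.mem_centralizer_singleton_iff.1 hp.2, ← mul_assoc]
          · have e2 : a * p0 = p0 * a * z := (S.comm a hg p0 hp0).resolve_left hp0'
            show b * a * p0 = p0 * (b * a)
            rw [mul_assoc b a p0, e2, ← mul_assoc, ← mul_assoc, e, mul_assoc (p0 * b) z a, ← haz.eq,
              mul_assoc (p0 * b), mul_assoc a z z, S.z2, mul_one, mul_assoc]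
        rcases h2 with h2 | h2
        · rw [eq_inv_of_mul_eq_one_left h2]
          exact inv_mem (Subgroup.mem_zpowers a)
        · refine absurd ?_ hza
          have : b = z * a := by rw [← h2, mul_assoc, ha2, mul_one]
          exact this ▸ hb.2
    have hBcard : Nat.card B ≤ 2 := by
      refine (Subgroup.card_le_of_le hB2).trans ?_
      rw [Nat.card_zpowers]
      exact Nat.le_of_dvd (by norm_num) (orderOf_dvd_of_pow_eq_one (by rw [pow_two]; exact S'.z2))
    -- back to the centraliser of z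
    have hPC : cj g⁻¹ P ≤ (Subgroup.centralizer ({z} : Set X)) := by
      intro x hx
      rw [mem_cj, inv_inv] at hx
      have h1 : Commute (g * x * g⁻¹) (g * z * g⁻¹) := Subgroup.mem_centralizer_singleton_iff.1 hx.2
      refine Subgroup.mem_centralizer_singleton_iff.2 ?_
      have h2 := h1.map (MulAut.conj g⁻¹).toMonoidHom
      simpa [mul_assoc] using h2.eq
    obtain ⟨T, hT, hTp, hTc, -, -⟩ := exists_image Q hker (cj g⁻¹ P) hPC
      ((S.isP.to_le inf_le_left).map _)
    have hTE : Nat.card ↥(cj g⁻¹ P ⊓ E) ≤ 2 := by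
      refine le_trans (le_of_eq ?_) hBcard
      rw [← card_cj g (cj g⁻¹ P ⊓ E)]
      congr 2
      ext x
      rw [hB, mem_cj, Subgroup.mem_inf, Subgroup.mem_inf, mem_cj, inv_inv, mem_cj]
      rw [show g * (g⁻¹ * x * g) * g⁻¹ = x by group]
    rw [card_cj] at hTc
    have := hF.two_le T hT hTp
    have h13 := hS.card
    have h14 : Nat.card P ≤ 128 * 2 := hTc.le.trans (Nat.mul_le_mul this hTE)
    omega
  -- the intersection is large
  set C' := E' ⊓ (Subgroup.centralizer ({z} : Set X)) with hC'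
  have hC'c : Nat.card E' ≤ 2 * Nat.card C' := half_centralizer E' (b := z) (w := a) S'.z2
    (fun p hp => by rw [(S'.hH p).1 (S'.hEH hp), mul_inv_cancel_right]) (fun p hp => by
      rcases S'.comm p hp z hzE' with e | e
      · left; rw [e, mul_inv_cancel_right]
      · right; rw [e, mul_assoc z p a, (S'.hH p).1 (S'.hEH hp), ← mul_assoc, mul_inv_cancel_right])
  set B := C' ⊓ E
  have hBab : ∀ x ∈ B, ∀ y ∈ B, x * y = y * x := by
    intro x hx y hy
    rcases S.comm x hx.2 y hy.2 with e | e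
    · exact e
    rcases S'.comm x hx.1.1 y hy.1.1 with e' | e'
    · exact e'
    exact absurd (mul_left_cancel (e.symm.trans e')).symm hne
  have hB7 := hS.abelian B inf_le_right hBab
  obtain ⟨T, hT, hTp, hTc, hTm, -⟩ := exists_image Q hker C' inf_le_right (S'.isP.to_le inf_le_left)
  have hTcomm : ∀ r ∈ T, ∀ t ∈ T, r * t = t * r := by
    intro r hr t ht
    obtain ⟨x, hx, rfl⟩ := hTm r hr
    obtain ⟨y, hy, rfl⟩ := hTm t ht
    refine image_comm Q hker _ _ ?_
    rcases S'.comm x hx.1 y hy.1 with e | e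
    · rw [e]; exact (show y * x * x⁻¹ * y⁻¹ = 1 by group) ▸ one_mem E
    · rw [e, mul_assoc y x a, (S'.hH x).1 (S'.hEH hx.1),
        show y * (a * x) * x⁻¹ * y⁻¹ = y * a * y⁻¹ by group, (S'.hH y).1 (S'.hEH hy.1), mul_inv_cancel_right]
      exact hg
  have hTsq : ∀ r ∈ T, r * r = 1 := by
    intro r hr
    obtain ⟨x, hx, rfl⟩ := hTm r hr
    refine image_sq Q hker _ ?_
    rcases S'.sq x hx.1 with e | e <;> rw [e]
    · exact one_mem E
    · exact hg
  have h13 := hS'.card
  have h32 : 32 ≤ Nat.card T := by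
    have h1 : Nat.card C' ≤ Nat.card T * 128 := hTc.le.trans (Nat.mul_le_mul_left _ hB7)
    omega
  have := hF.central T T hT hTp le_rfl hTsq hTcomm (by omega)
  omega

/-- The involution is isolated. -/
theorem isolated (hz : orderOf z = 2) (hcard : Nat.card Q = 2 ^ 13)
    (hcent : Subgroup.centralizer (Q : Set (Subgroup.centralizer ({z} : Set X))) ≤ Q)
    (hF : Facts (OutForm.qf Q) (toGL Q).range) : Cfsg.IsIsolatedInvolution z := by
  haveI : Fact (Nat.Prime 2) := ⟨Nat.prime_two⟩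
  obtain ⟨hS, hcen⟩ := sd_of hz Q (Fact.out) hcard hcent
  have hker := toGL_ker (Q := Q) hcent
  refine ⟨hz, fun g hcom => ?_⟩
  by_contra hne
  set E := Q.map (Subgroup.centralizer ({z} : Set X)).subtype with hE
  set a := g * z * g⁻¹ with ha
  have S := hS.set
  have S' := (hS.conj g).set
  set E' := cj g E
  have hnone : ∀ k : X, k * z * k⁻¹ ∈ E → k * z * k⁻¹ = z := fun k hk => no_conj_mem Q hS hker hF hk
  have haE : a ∉ E := fun h => hne (hnone g h)
  have hzE' : z ∉ E' := by
    intro h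
    rw [mem_cj] at h
    have h' := hnone g⁻¹ (by rwa [inv_inv])
    refine hne ?_
    calc a = g * (g⁻¹ * z * g⁻¹⁻¹) * g⁻¹ := by rw [h', ha]
      _ = z := by group
  -- the other involution on Q
  set b0 := g⁻¹ * z * g with hb0
  have hb0C : b0 ∈ (Subgroup.centralizer ({z} : Set X)) := by
    refine Subgroup.mem_centralizer_singleton_iff.2 ?_
    have h := hcom.map (MulAut.conj g⁻¹).toMonoidHom
    simp only [MulEquiv.coe_toMonoidHom, MulAut.conj_apply, inv_inv] at h
    rw [ha, show g⁻¹ * (g * z * g⁻¹) * g = z by group] at h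
    exact h.eq
  have hb0sq : b0 * b0 = 1 := by
    rw [hb0, show g⁻¹ * z * g * (g⁻¹ * z * g) = g⁻¹ * (z * z) * g by group, S.z2, mul_one, inv_mul_cancel]
  set β : (Subgroup.centralizer ({z} : Set X)) := ⟨b0, hb0C⟩
  have hb0E : β ∉ Q := fun h => hzE' (mem_cj.2 ⟨β, h, rfl⟩)
  have hs1 : toGL Q β ≠ 1 := fun h => hb0E (hker ▸ MonoidHom.mem_ker.2 h)
  have hssq : toGL Q β * toGL Q β = 1 := by
    rw [← map_mul, show β * β = 1 from Subtype.ext hb0sq, map_one]
  obtain ⟨hfix, hsing⟩ := hF.invol _ ⟨β, rfl⟩ hssq hs1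
  have hββ : ∀ x, (MulAut.conjNormal β : MulAut Q) ((MulAut.conjNormal β : MulAut Q) x) = x := fun x => by
    rw [← MulAut.mul_apply, ← map_mul, show β * β = 1 from Subtype.ext hb0sq, map_one, MulAut.one_apply]
  obtain ⟨Cq, Rq, hCq, hRC, hCc, hRc, hRcomm, hR2, hRform, hbound⟩ :=
    fix_facts hcard (MulAut.conjNormal β) hββ hfix hsing
  let φ : Q →* X := (MulAut.conj g).toMonoidHom.comp ((Subgroup.centralizer ({z} : Set X)).subtype.comp Q.subtype)
  have hφi : Function.Injective φ :=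
    (MulAut.conj g).injective.comp ((Subgroup.centralizer ({z} : Set X)).subtype_injective.comp Q.subtype_injective)
  have hφE : ∀ p : Q, φ p ∈ E' := fun p => ⟨_, ⟨(p : (Subgroup.centralizer ({z} : Set X))), p.2, rfl⟩, rfl⟩
  set C' := Cq.map φ with hC'
  set R' := Rq.map φ with hR'
  have hC'E : C' ≤ E' := by rintro _ ⟨p, -, rfl⟩; exact hφE p
  have hRC' : R' ≤ C' := Subgroup.map_mono hRC
  have hb0φ : g * b0 * g⁻¹ = z := by rw [hb0]; group
  have hC'C : C' ≤ (Subgroup.centralizer ({z} : Set X)) := by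
    rintro _ ⟨p, hp, rfl⟩
    refine Subgroup.mem_centralizer_singleton_iff.2 ?_
    have h : b0 * ((p : (Subgroup.centralizer ({z} : Set X))) : X) * b0⁻¹ = ((p : (Subgroup.centralizer ({z} : Set X))) : X) := congrArg (fun q : Q => ((q : (Subgroup.centralizer ({z} : Set X))) : X)) ((hCq p).1 hp)
    have h' : Commute ((p : (Subgroup.centralizer ({z} : Set X))) : X) b0 := (mul_inv_eq_iff_eq_mul.1 h).symm
    have h2 := h'.map (MulAut.conj g).toMonoidHom
    simp only [MulEquiv.coe_toMonoidHom, MulAut.conj_apply, hb0φ] at h2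
    exact h2.eq
  set B := C' ⊓ E with hB
  have hBc : ∀ b ∈ B, ∀ c ∈ C', c * b = b * c := by
    intro b hb c hc
    rcases S'.comm c (hC'E hc) b (hC'E hb.1) with e | e
    · exact e
    · exfalso
      refine haE ?_
      have h2 : b⁻¹ * (c * b * c⁻¹) = a := by
        calc b⁻¹ * (c * b * c⁻¹) = b⁻¹ * (b * c * a * c⁻¹) := by rw [e]
          _ = c * a * c⁻¹ := by group
          _ = a := by rw [(S'.hH c).1 (S'.hEH (hC'E hc)), mul_inv_cancel_right]
      exact h2 ▸ mul_mem (inv_mem hb.2) (S.hnorm c (hC'C hc) b hb.2)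
  have h8 : 8 ≤ Nat.card ↥(B ⊓ R') := by
    by_contra hlt
    push Not at hlt
    have hp : IsPGroup 2 C' := S'.isP.to_le hC'E
    obtain ⟨T, hT, hTp, hTc, hTm, hTin⟩ := exists_image Q hker C' hC'C hp
    obtain ⟨TR, -, -, hTRc, hTRm, -⟩ := exists_image Q hker R' (hRC'.trans hC'C) (hp.to_le hRC')
    have hR32 : Nat.card R' = 32 := by
      rw [← hRc]; exact (Nat.card_congr (Rq.equivMapOfInjective _ hφi).toEquiv).symm
    have hC256 : 256 ≤ Nat.card C' := by
      rw [show Nat.card C' = Nat.card Cq from (Nat.card_congr (Cq.equivMapOfInjective _ hφi).toEquiv).symm]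
      exact hCc
    have hRE : R' ⊓ E = B ⊓ R' := by
      rw [hB]
      exact le_antisymm (le_inf (le_inf (inf_le_left.trans hRC') inf_le_right) inf_le_left)
        (le_inf inf_le_right (inf_le_left.trans inf_le_right))
    have hle : TR ≤ T := fun t ht => by
      obtain ⟨x, hx, rfl⟩ := hTRm t ht
      exact hTin x (hRC' hx)
    have hRsq : ∀ r ∈ TR, r * r = 1 := by
      intro r hr
      obtain ⟨x, ⟨p, hp', rfl⟩, rfl⟩ := hTRm r hr
      refine image_sq Q hker _ ?_
      rw [← map_mul, hR2 p hp', map_one]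
      exact one_mem _
    have hRcent : ∀ r ∈ TR, ∀ t ∈ T, r * t = t * r := by
      intro r hr t ht
      obtain ⟨x, ⟨p, hp', rfl⟩, rfl⟩ := hTRm r hr
      obtain ⟨y, ⟨q, hq', rfl⟩, rfl⟩ := hTm t ht
      refine image_comm Q hker _ _ ?_
      rw [← map_mul, hRcomm p hp' q hq', map_mul, mul_inv_cancel_right, mul_inv_cancel]
      exact one_mem _
    -- the intersection of the extraspecial groups is small
    have hB0 := hbound (B.comap φ) (fun p hp' => by
        obtain ⟨q, hq, e⟩ := hp'.1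
        rwa [← hφi e]) (fun b hb c hc => hφi (by
        rw [map_mul, map_mul]; exact (hBc _ hb _ ⟨c, hc, rfl⟩).symm))
    have hBφ : B ≤ φ.range := fun x hx => by
      obtain ⟨p, -, e⟩ := hx.1
      exact ⟨p, e⟩
    have hB1 : Nat.card (B.comap φ) = Nat.card B := by
      rw [Nat.card_congr ((B.comap φ).equivMapOfInjective _ hφi).toEquiv, Subgroup.map_comap_eq_self hBφ]
    have hB2 : Nat.card ↥(B.comap φ ⊓ Rq) = Nat.card ↥(B ⊓ R') := by
      rw [Nat.card_congr ((B.comap φ ⊓ Rq).equivMapOfInjective _ hφi).toEquiv,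
        Subgroup.map_inf_eq _ _ _ hφi, Subgroup.map_comap_eq_self hBφ]
    rw [hB1, hB2] at hB0
    have hTR8 : Nat.card ↥(B ⊓ R') ∣ Nat.card R' := by
      exact Subgroup.card_dvd_of_le inf_le_right
    rw [hRE, hR32] at hTRc
    have h4 : Nat.card ↥(B ⊓ R') ≤ 4 := by
      rw [hR32, show (32 : ℕ) = 2 ^ 5 by norm_num, Nat.dvd_prime_pow Nat.prime_two] at hTR8
      obtain ⟨k, hk, e⟩ := hTR8
      rw [e] at hlt ⊢
      interval_cases k <;> omega
    have h8' : 8 ≤ Nat.card TR := by
      have := Nat.mul_le_mul_left (Nat.card TR) h4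
      omega
    have h16 := hF.central T TR hT hTp hle hRsq hRcent h8'
    rw [← hB] at hTc
    have := Nat.mul_le_mul h16 (hB0.trans (Nat.mul_le_mul_left 2 h4))
    omega
  -- the movers
  have hel : ∀ b ∈ B ⊓ R', b ≠ 1 → ∃ j ∈ E', j * z * j⁻¹ = z * b * a := by
    intro b hb hb1
    obtain ⟨r, hr, rfl⟩ := hb.2
    obtain ⟨y, c, hc, rfl⟩ := hRform r hr
    set j := φ y with hj
    have hjE : j ∈ E' := hφE y
    have hjc : j * j = 1 ∨ j * j = a := S'.sq j hjE
    have hφc : φ c = 1 ∨ φ c = a := by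
      rcases hcen c hc with e | e
      · left; show g * ((c : (Subgroup.centralizer ({z} : Set X))) : X) * g⁻¹ = 1; rw [e]; group
      · right; show g * ((c : (Subgroup.centralizer ({z} : Set X))) : X) * g⁻¹ = a; rw [e, ha]
    have hφβ : φ ((MulAut.conjNormal β : MulAut Q) y) = z * j * z⁻¹ := by
      show g * (b0 * ((y : (Subgroup.centralizer ({z} : Set X))) : X) * b0⁻¹) * g⁻¹ = z * (g * ((y : (Subgroup.centralizer ({z} : Set X))) : X) * g⁻¹) * z⁻¹
      calc _ = (g * b0 * g⁻¹) * (g * ((y : (Subgroup.centralizer ({z} : Set X))) : X) * g⁻¹) * (g * b0 * g⁻¹)⁻¹ := by group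
        _ = _ := by rw [hb0φ]
    have hjinv : j⁻¹ = j ∨ j⁻¹ = j * a := by
      rcases hjc with e | e
      · exact Or.inl (inv_eq_of_mul_eq_one_right e)
      · right
        refine inv_eq_of_mul_eq_one_right ?_
        rw [← mul_assoc, e]; exact S'.z2
    have hz' : z⁻¹ = z := inv_eq_of_mul_eq_one_right S.z2
    have hpos : φ ((MulAut.conjNormal β : MulAut Q) y * y * c) = z * (j * z * j⁻¹) ∨
        φ ((MulAut.conjNormal β : MulAut Q) y * y * c) = z * (j * z * j⁻¹) * a := by
      rw [map_mul, map_mul, hφβ, hz']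
      have haa : a * a = 1 := S'.z2
      have hja : Commute a j := ((S'.hH j).1 (S'.hEH hjE)).symm
      rcases hjinv with e | e <;> rcases hφc with f | f <;> rw [e, f, ← hj]
      · left; group
      · right; group
      · right
        simp only [mul_assoc, mul_one, haa]
      · left
        simp only [mul_assoc]
    refine ⟨j, hjE, ?_⟩
    rcases hpos with e | e
    · exfalso
      have hzz : z * φ ((MulAut.conjNormal β : MulAut Q) y * y * c) = j * z * j⁻¹ := by
        rw [e, ← mul_assoc, S.z2, one_mul]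
      have h := hnone j (by rw [← hzz]; exact mul_mem S.zE hb.1.2)
      rw [← hzz] at h
      exact hb1 (mul_eq_left.1 h)
    · calc j * z * j⁻¹ = z * z * (j * z * j⁻¹) * (a * a) := by rw [S.z2, S'.z2, one_mul, mul_one]
        _ = _ := by rw [e]; simp only [mul_assoc]
  have hsqB : ∀ x ∈ B, x * x = 1 := by
    intro x hx
    rcases S.sq x hx.2 with e | e
    · exact e
    rcases S'.sq x (hC'E hx.1) with e' | e'
    · exact e'
    exact absurd (e'.symm.trans e) hne
  obtain ⟨b2, hb2, hb21⟩ : ∃ b ∈ B ⊓ R', b ≠ 1 := by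
    by_contra h
    push Not at h
    rw [(Subgroup.eq_bot_iff_forall _).2 h, Subgroup.card_bot] at h8
    omega
  obtain ⟨j, hjE, hj⟩ := hel b2 hb2 hb21
  have haB : ∀ {x : X}, x ∈ E' → Commute x a := fun hx => (S'.hH _).1 (S'.hEH hx)
  have hmove : ∀ b ∈ B ⊓ R', b ≠ 1 → b ≠ b2 → j * b * j⁻¹ = b * a := by
    intro b hb hb1 hbb
    have hbE' := hC'E hb.1.1
    have hja : Commute j a := haB hjE
    rcases S'.comm j hjE b hbE' with e | e
    · exfalso
      obtain ⟨k, -, hk⟩ := hel b hb hb1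
      have h1 : (j * k) * z * (j * k)⁻¹ = z * b2 * b := by
        calc (j * k) * z * (j * k)⁻¹ = j * (k * z * k⁻¹) * j⁻¹ := by group
          _ = (j * z * j⁻¹) * (j * b * j⁻¹) * (j * a * j⁻¹) := by rw [hk]; group
          _ = z * b2 * a * b * a := by rw [hj, e, hja.eq, mul_inv_cancel_right, mul_inv_cancel_right]
          _ = z * b2 * b * (a * a) := by rw [mul_assoc _ a b, ← (haB hbE').eq]; group
          _ = z * b2 * b := by rw [S'.z2, mul_one]
      have h2 := hnone (j * k) (by rw [h1]; exact mul_mem (mul_mem S.zE hb2.1.2) hb.1.2)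
      rw [h1, mul_assoc, mul_eq_left] at h2
      exact hbb ((eq_inv_of_mul_eq_one_right h2).trans (inv_eq_of_mul_eq_one_right (hsqB b2 hb2.1)))
    · rw [e, mul_assoc b j a, hja.eq, ← mul_assoc, mul_inv_cancel_right]
  have exists_out : ∀ s : Finset X, s.card < 8 → ∃ b ∈ B ⊓ R', b ∉ s := by
    intro s hs
    by_contra h
    push Not at h
    have := Set.ncard_le_ncard (s := ((B ⊓ R' : Subgroup X) : Set X)) (t := (s : Set X)) h s.finite_toSet
    rw [Set.ncard_coe_finset, ← Nat.card_coe_set_eq] at this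
    exact absurd (h8.trans this) (by omega)
  classical
  obtain ⟨b, hb, hbs⟩ := exists_out {1, b2} (lt_of_le_of_lt Finset.card_le_two (by norm_num))
  simp only [Finset.mem_insert, Finset.mem_singleton, not_or] at hbs
  obtain ⟨b', hb', hb's⟩ := exists_out {1, b2, b, b * b2} (lt_of_le_of_lt Finset.card_le_four (by norm_num))
  simp only [Finset.mem_insert, Finset.mem_singleton, not_or] at hb's
  have hbb : b * b = 1 := hsqB b hb.1
  have h1 : b * b' ≠ 1 := fun e =>
    hb's.2.2.1 ((eq_inv_of_mul_eq_one_right e).trans (inv_eq_of_mul_eq_one_right hbb))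
  have h2 : b * b' ≠ b2 := fun e => hb's.2.2.2 (by rw [← e, ← mul_assoc, hbb, one_mul])
  have e := hmove _ (mul_mem hb hb') h1 h2
  rw [show j * (b * b') * j⁻¹ = (j * b * j⁻¹) * (j * b' * j⁻¹) by group, hmove b hb hbs.1 hbs.2,
    hmove b' hb' hb's.1 hb's.2.1, mul_assoc b a, ← mul_assoc a b', ← (haB (hC'E hb'.1.1)).eq, mul_assoc b' a a,
    S'.z2, mul_one, left_eq_mul] at e
  exact S'.z1 e

end Image

end Cfsg.Agent.Fi24ByInvol
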