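/-
Groups over Fi24' with trivial centraliser: the index of the centraliser of an involution decides between Fi24' and
Fi24 (helper79).

* `exists_embedding` : the embedding into Fi24;
* `outer` : the two outcomes.
-/
import Cfsg.Agent.Lib.FiTwentyFour.Aut

set_option autoImplicit false

namespace Cfsg.Agent.Fi24ByInvol

open Cfsg.Agent.FiTwentyFour Cfsg.Agent.ThreeTrans
open Cfsg.Agent.FischerM22 (IsProd IsTriple)
open Cfsg.Agent.FischerM24 (involution_prod isProd_cases4)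

universe u

/-- The embedding into Fi24 extending an isomorphism. -/
theorem exists_embedding {G : Type u} [Group G] (Gs : Subgroup G) [Gs.Normal]
    (hC : Subgroup.centralizer (Gs : Set G) = ⊥) (e : ↥Gs ≃* ↥C24) :
    ∃ ι : G →* G24, Function.Injective ι ∧ ∀ x : ↥Gs, ι (x : G) = (e x : G24) := by
  let Θ : G24 ≃* MulAut ↥C24 := MulEquiv.ofBijective θ24 ⟨conjNormal_injective, exists_conj⟩
  let cn : G →* MulAut ↥Gs := MulAut.conjNormal
  refine ⟨Θ.symm.toMonoidHom.comp ((MulAut.congr e).toMonoidHom.comp cn), ?_, fun x => ?_⟩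
  · refine Θ.symm.injective.comp ((MulAut.congr e).injective.comp ?_)
    rw [← MonoidHom.ker_eq_bot_iff, eq_bot_iff, ← hC]
    intro g hg
    refine Subgroup.mem_centralizer_iff.2 fun y hy => ?_
    have h : g * y * g⁻¹ = y := congrArg (fun f : MulAut ↥Gs => ((f ⟨y, hy⟩ : ↥Gs) : G)) (MonoidHom.mem_ker.1 hg)
    exact (mul_inv_eq_iff_eq_mul.1 h).symm
  · show Θ.symm ((MulAut.congr e) (cn (x : G))) = (e x : G24)
    rw [MulEquiv.symm_apply_eq]
    refine MulEquiv.ext fun y => Subtype.ext ?_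
    show ((e (MulAut.conjNormal (x : G) (e.symm y)) : ↥C24) : G24) = (θ24 (e x : G24) y : G24)
    rw [θ24_apply, show (MulAut.conjNormal (x : G) (e.symm y) : ↥Gs) = x * e.symm y * x⁻¹ from Subtype.ext rfl,
      map_mul, map_mul, map_inv, MulEquiv.apply_symm_apply]
    rfl

/-- The two outcomes. -/
theorem outer {G : Type u} [Group G] [Finite G] {z : G} (hz : orderOf z = 2) (Gs : Subgroup G) [Gs.Normal]
    (hzG : z ∈ Gs) (hC : Subgroup.centralizer (Gs : Set G) = ⊥) (hiso : Cfsg.Spor.IsoFi24' Gs)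
    (K : Subgroup (Subgroup.centralizer ({z} : Set G))) [K.Normal]
    (hKG : K ≤ Gs.subgroupOf (Subgroup.centralizer ({z} : Set G)))
    (hidx : K.relIndex (Gs.subgroupOf (Subgroup.centralizer ({z} : Set G))) = 2) :
    (K.index = 2 ∧ Cfsg.Spor.IsoFi24' G) ∨ (K.index = 4 ∧
      (∀ x : (Subgroup.centralizer ({z} : Set G)) ⧸ K, x ^ 2 = 1) ∧ Nonempty (G ≃* Cfsg.Spor.Fi24)) := by
  haveI : Finite G24 := finite_G24
  obtain ⟨e⟩ := hiso
  obtain ⟨ι, hι, hιe⟩ := exists_embedding Gs hC e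
  set A := Gs.subgroupOf (Subgroup.centralizer ({z} : Set G)) with hA
  have hmul := Subgroup.relIndex_mul_index hKG
  rw [hidx] at hmul
  have hC24 : ∀ c ∈ C24, ∃ x : G, x ∈ Gs ∧ ι x = c := fun c hc =>
    ⟨(e.symm ⟨c, hc⟩ : ↥Gs), (e.symm ⟨c, hc⟩).2, by rw [hιe, MulEquiv.apply_symm_apply]⟩
  have hin : ∀ g : G, ι g ∈ C24 → g ∈ Gs := fun g hg => by
    obtain ⟨x, hx, h⟩ := hC24 _ hg
    exact hι h ▸ hx
  by_cases htop : ∀ g : G, ι g ∈ C24
  · left
    have hA' : A = ⊤ := Subgroup.eq_top_iff' _ |>.2 fun h =>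
      Subgroup.mem_subgroupOf.2 (hin _ (htop _))
    have hGs : Gs = ⊤ := Subgroup.eq_top_iff' _ |>.2 fun g => hin g (htop g)
    refine ⟨by rw [← hmul, hA', Subgroup.index_top], ⟨?_⟩⟩
    exact ((MulEquiv.subgroupCongr hGs).trans Subgroup.topEquiv).symm.trans e
  right
  push Not at htop
  obtain ⟨g0, hg0⟩ := htop
  have hsurj : Function.Surjective ι := by
    intro x
    by_cases hx : x ∈ C24
    · obtain ⟨y, -, hy⟩ := hC24 x hx; exact ⟨y, hy⟩
    · have h2 : (ι g0)⁻¹ * x ∈ C24 := by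
        have h1 : sign24 (ι g0) = -1 := (sign24_cases _).resolve_left fun h => hg0 (mem_C24.2 h)
        have h3 : sign24 x = -1 := (sign24_cases _).resolve_left fun h => hx (mem_C24.2 h)
        exact mem_C24.2 (by rw [map_mul, map_inv, h1, h3]; rfl)
      obtain ⟨y, -, hy⟩ := hC24 _ h2
      exact ⟨g0 * y, by rw [map_mul, hy, mul_inv_cancel_left]⟩
  let eG : G ≃* G24 := MulEquiv.ofBijective ι ⟨hι, hsurj⟩
  -- an odd transposition commuting with the involution
  have hz2 : z * z = 1 := by rw [← pow_two, ← hz, pow_orderOf_eq_one]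
  have hz1 : z ≠ 1 := fun h => by simp [h] at hz
  obtain ⟨m, h1, h4, hm⟩ := involution_prod setup24 (x := ι z) (by rw [← map_mul, hz2, map_one])
    (fun h => hz1 (hι (h.trans (map_one ι).symm)))
  obtain ⟨d, hd, hdc⟩ : ∃ d ∈ D24, Commute d (ι z) := by
    obtain ⟨l, -, hlen, hD, hcm, e'⟩ := hm
    match l, hlen with
    | [], hlen => simp at hlen; omega
    | a :: l, _ =>
      exact ⟨a, hD a List.mem_cons_self,
        e' ▸ Commute.list_prod_right _ _ fun b hb => hcm a List.mem_cons_self b hb⟩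
  obtain ⟨d', rfl⟩ := hsurj d
  have hd'z : d' * z = z * d' := hι (by rw [map_mul, map_mul, hdc.eq])
  set δ : Subgroup.centralizer ({z} : Set G) := ⟨d', Subgroup.mem_centralizer_singleton_iff.2 hd'z⟩
  have hδA : δ ∉ A := fun h => by
    have h' : ι d' ∈ C24 := by
      rw [show d' = ((⟨d', Subgroup.mem_subgroupOf.1 h⟩ : ↥Gs) : G) from rfl, hιe]
      exact (e _).2
    rw [mem_C24, sign_D hd] at h'
    exact absurd h' (by decide)
  have hδ2 : δ * δ = 1 := Subtype.ext (hι (by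
    show ι (d' * d') = ι 1
    rw [map_mul, map_one, ThreeTrans.mul_self setup24.cls.1 hd]))
  have hsign : ∀ x : Subgroup.centralizer ({z} : Set G), x ∈ A ↔ sign24 (ι (x : G)) = 1 := by
    intro x
    refine ⟨fun h => mem_C24.1 ?_, fun h => Subgroup.mem_subgroupOf.2 (hin _ (mem_C24.2 h))⟩
    rw [show (x : G) = ((⟨(x : G), Subgroup.mem_subgroupOf.1 h⟩ : ↥Gs) : G) from rfl, hιe]
    exact (e _).2
  have hA2 : A.index = 2 := by
    refine Subgroup.index_eq_two_iff.2 ⟨δ, fun x => ?_⟩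
    rw [hsign, hsign, Subgroup.coe_mul, map_mul, map_mul]
    rw [show sign24 (ι (δ : G)) = -1 from sign_D hd]
    rcases sign24_cases (ι (x : G)) with h | h <;> rw [h] <;> decide
  refine ⟨by rw [← hmul, hA2], ?_, ⟨eG⟩⟩
  have hK2 : (K.subgroupOf A).index = 2 := hidx
  have hsqA : ∀ y ∈ A, y * y ∈ K := fun y hy =>
    Subgroup.mem_subgroupOf.1 ((Subgroup.mul_mem_iff_of_index_two hK2 (a := ⟨y, hy⟩) (b := ⟨y, hy⟩)).2 Iff.rfl)
  intro x
  obtain ⟨x, rfl⟩ := QuotientGroup.mk_surjective x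
  rw [← QuotientGroup.mk_pow, QuotientGroup.eq_one_iff, pow_two]
  by_cases hx : x ∈ A
  · exact hsqA x hx
  have hy : x * δ ∈ A := (Subgroup.mul_mem_iff_of_index_two hA2).2 (iff_of_false hx hδA)
  have hy' : δ * (x * δ) * δ⁻¹ ∈ A := by
    refine (hsign _).2 ?_
    have := (hsign _).1 hy
    rw [Subgroup.coe_mul, Subgroup.coe_mul, Subgroup.coe_inv, map_mul, map_mul, map_inv, map_mul, map_mul, map_inv,
      mul_right_comm, mul_inv_cancel, one_mul]
    exact this
  have hprod := (Subgroup.mul_mem_iff_of_index_two hK2 (a := ⟨x * δ, hy⟩) (b := ⟨δ * (x * δ) * δ⁻¹, hy'⟩)).2 (by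
    rw [Subgroup.mem_subgroupOf, Subgroup.mem_subgroupOf]
    refine ⟨fun h => ‹K.Normal›.conj_mem _ h δ, fun h => ?_⟩
    have := ‹K.Normal›.conj_mem _ h δ⁻¹
    rwa [show δ⁻¹ * (δ * (x * δ) * δ⁻¹) * δ⁻¹⁻¹ = x * δ by group] at this)
  rw [Subgroup.mem_subgroupOf] at hprod
  have e1 : x * x = x * δ * (δ * (x * δ) * δ⁻¹) := by
    rw [inv_eq_of_mul_eq_one_right hδ2,
      show x * δ * (δ * (x * δ) * δ) = x * (δ * δ) * x * (δ * δ) by group, hδ2, mul_one, mul_one]
  rw [e1]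
  exact hprod

end Cfsg.Agent.Fi24ByInvol
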