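/-
Lifts to the centraliser when all automorphisms of the coordinates occur.

* `exists_x`, `exists_commuting`, `exists_h` : an involution over the transvection
* `mem_cj_of_mem`, `small_false` : no conjugate of `z` lies over a vector of the small orbit
-/
import Cfsg.Agent.Lib.Fi24ByInvol.Four
import Cfsg.Agent.Lib.Fi24ByInvol.Inner

set_option autoImplicit false
set_option linter.unusedSectionVars false

namespace Cfsg.Agent.Fi24ByInvol

open LargeExtraspecial LargeFischer
open scoped commutatorElement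

universe u

variable {X : Type u} [Group X] [Finite X] {z : X}
  {Q : Subgroup (Subgroup.centralizer ({z} : Set X))} [Q.Normal] [Fact (Cfsg.IsExtraspecial 2 Q)]

theorem center_coe (hcen : ∀ c ∈ Subgroup.center Q, ((c : (Subgroup.centralizer ({z} : Set X))) : X) = 1 ∨ ((c : (Subgroup.centralizer ({z} : Set X))) : X) = z) {c : Q}
    (hc : c ∈ Subgroup.center Q) (h : (Subgroup.centralizer ({z} : Set X))) : (c : (Subgroup.centralizer ({z} : Set X))) * h = h * c := by
  apply Subtype.ext
  show ((c : (Subgroup.centralizer ({z} : Set X))) : X) * h = h * ((c : (Subgroup.centralizer ({z} : Set X))) : X)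
  rcases hcen c hc with e | e <;> rw [e]
  · simp
  · exact (Subgroup.mem_centralizer_singleton_iff.1 h.2).symm

/-- A lift of order three of the scalar. -/
theorem exists_x (hker : (toGL Q).ker = Q) {n : OutForm.Vm Q ≃ₗ[ZMod 2] OutForm.Vm Q}
    (hn : n ∈ (toGL Q).range) (hn3 : n ^ 3 = 1) : ∃ x : (Subgroup.centralizer ({z} : Set X)), toGL Q x = n ∧ x * x * x = 1 := by
  obtain ⟨c, hc⟩ := hn
  refine ⟨c ^ 4, by rw [map_pow, hc, pow_succ, hn3, one_mul], ?_⟩
  have h3 : c ^ 3 ∈ Q := by rw [← hker, MonoidHom.mem_ker, map_pow, hc, hn3]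
  have h1 := OutForm.sq_one_of_center (OutForm.sq_mem (⟨_, h3⟩ : Q))
  have h2 := congrArg (fun a : Q => (a : (Subgroup.centralizer ({z} : Set X)))) h1
  simp only [Subgroup.coe_mul, Subgroup.coe_one] at h2
  rw [← h2]; group

/-- Elements commuting with `n` lift to elements commuting with a lift of order three. -/
theorem exists_commuting (hker : (toGL Q).ker = Q)
    (hcen : ∀ c ∈ Subgroup.center Q, ((c : (Subgroup.centralizer ({z} : Set X))) : X) = 1 ∨ ((c : (Subgroup.centralizer ({z} : Set X))) : X) = z)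
    {n : OutForm.Vm Q ≃ₗ[ZMod 2] OutForm.Vm Q} (hfix : ∀ v, n v = v → v = 0) {x : (Subgroup.centralizer ({z} : Set X))} (hx : toGL Q x = n)
    (hx3 : x * x * x = 1) {γ : OutForm.Vm Q ≃ₗ[ZMod 2] OutForm.Vm Q} (hγ : γ ∈ (toGL Q).range) (hγn : γ * n = n * γ) :
    ∃ k, toGL Q k = γ ∧ k * x = x * k := by
  obtain ⟨c, hc⟩ := hγ
  set y := c * x * c⁻¹ with hy
  have hy3 : y * y * y = 1 := by
    calc y * y * y = c * (x * x * x) * c⁻¹ := by simp [hy, mul_assoc]
      _ = 1 := by rw [hx3]; simp
  have hδ : y * x⁻¹ ∈ Q := by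
    rw [← hker, MonoidHom.mem_ker, map_mul, map_inv, hy, map_mul, map_mul, map_inv, hc, hx, hγn]
    simp
  let f : OutForm.Vm Q →+ OutForm.Vm Q :=
    { toFun := fun v => v + n v
      map_zero' := by simp
      map_add' := fun v w => by rw [map_add]; abel }
  have hfi : Function.Injective f := (injective_iff_map_eq_zero f).2 fun v hv => hfix v
    ((eq_neg_of_add_eq_zero_right (show v + n v = 0 from hv)).trans (ZModModule.neg_eq_self v))
  obtain ⟨v, hv⟩ := Finite.injective_iff_surjective.1 hfi (OutForm.pr ⟨y * x⁻¹, hδ⟩)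
  obtain ⟨q, rfl⟩ := OutForm.pr_surjective v
  have he : OutForm.pr (q * MulAut.conjNormal x q⁻¹) = OutForm.pr ⟨y * x⁻¹, hδ⟩ := by
    rw [OutForm.pr_mul, ← toGL_pr, OutForm.pr_inv, hx]; exact hv
  obtain ⟨ζ, hζ, hζe⟩ := OutForm.eq_mul_center he
  have hζc := center_coe hcen hζ
  have hqx : (q : (Subgroup.centralizer ({z} : Set X))) * x * (q : (Subgroup.centralizer ({z} : Set X)))⁻¹ = y * ζ := by
    have h := congrArg (fun a : Q => (a : (Subgroup.centralizer ({z} : Set X)))) hζe
    simp only [Subgroup.coe_mul, MulAut.conjNormal_apply, Subgroup.coe_inv] at h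
    have h' := congrArg (· * x) h
    simp only [mul_assoc, inv_mul_cancel, mul_one] at h'
    rw [mul_assoc, h', hζc x, inv_mul_cancel_left]
  have hζ1 : (ζ : (Subgroup.centralizer ({z} : Set X))) = 1 := by
    have e3 : (y * ζ) * (y * ζ) * (y * ζ) = 1 := by
      rw [← hqx]
      calc _ = (q : (Subgroup.centralizer ({z} : Set X))) * (x * x * x) * (q : (Subgroup.centralizer ({z} : Set X)))⁻¹ := by
            simp [mul_assoc]
        _ = 1 := by rw [hx3]; simp
    have e : ∀ a : (Subgroup.centralizer ({z} : Set X)), (ζ : (Subgroup.centralizer ({z} : Set X))) * a = a * ζ := hζc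
    have hz2 : (ζ : (Subgroup.centralizer ({z} : Set X))) * ζ = 1 :=
      congrArg (fun a : Q => (a : (Subgroup.centralizer ({z} : Set X)))) (OutForm.sq_one_of_center hζ)
    calc (ζ : (Subgroup.centralizer ({z} : Set X))) = (y * y * y) * ζ * ((ζ : (Subgroup.centralizer ({z} : Set X))) * ζ) := by
          rw [hy3, hz2, one_mul, mul_one]
      _ = (y * ζ) * (y * ζ) * (y * ζ) := by
          have hp := (Commute.symm (e y) : Commute y (ζ : (Subgroup.centralizer ({z} : Set X)))).mul_pow 3
          simp only [pow_succ, pow_zero, one_mul] at hp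
          rw [hp, ← mul_assoc (y * y * y)]; simp only [mul_assoc]
      _ = 1 := e3
  rw [hζ1, mul_one] at hqx
  refine ⟨(q : (Subgroup.centralizer ({z} : Set X)))⁻¹ * c, ?_, ?_⟩
  · have h1 : toGL Q (q : (Subgroup.centralizer ({z} : Set X))) = 1 := by rw [← MonoidHom.mem_ker, hker]; exact q.2
    rw [map_mul, map_inv, hc, h1, inv_one, one_mul]
  · calc (q : (Subgroup.centralizer ({z} : Set X)))⁻¹ * c * x
        = (q : (Subgroup.centralizer ({z} : Set X)))⁻¹ * y * c := by rw [hy]; simp [mul_assoc]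
      _ = _ := by rw [← hqx]; simp [mul_assoc]

/-- An element commuting with the lift commutes with what it fixes modulo the centre. -/
theorem comm_of_fix (hcen : ∀ c ∈ Subgroup.center Q, ((c : (Subgroup.centralizer ({z} : Set X))) : X) = 1 ∨ ((c : (Subgroup.centralizer ({z} : Set X))) : X) = z)
    {n : OutForm.Vm Q ≃ₗ[ZMod 2] OutForm.Vm Q} (hfix : ∀ v, n v = v → v = 0) {x : (Subgroup.centralizer ({z} : Set X))} (hx : toGL Q x = n)
    {d : (Subgroup.centralizer ({z} : Set X))} (hdx : d * x = x * d) (hdn : ∀ v, toGL Q d (n v) = n (toGL Q d v)) {p : Q}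
    (hp : toGL Q d (OutForm.pr p) = OutForm.pr p) : d * (p : (Subgroup.centralizer ({z} : Set X))) = p * d := by
  let f : OutForm.Vm Q →+ OutForm.Vm Q :=
    { toFun := fun v => v + n v
      map_zero' := by simp
      map_add' := fun v w => by rw [map_add]; abel }
  have hfi : Function.Injective f := (injective_iff_map_eq_zero f).2 fun v hv => hfix v
    ((eq_neg_of_add_eq_zero_right (show v + n v = 0 from hv)).trans (ZModModule.neg_eq_self v))
  obtain ⟨v, hv⟩ := Finite.injective_iff_surjective.1 hfi (OutForm.pr p)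
  have hdv : toGL Q d v = v := hfi (by
    show toGL Q d v + n (toGL Q d v) = v + n v
    rw [← hdn, ← map_add, show v + n v = OutForm.pr p from hv, hp])
  obtain ⟨w, rfl⟩ := OutForm.pr_surjective v
  have he : OutForm.pr p = OutForm.pr (w * MulAut.conjNormal x w) := by
    rw [OutForm.pr_mul, ← toGL_pr, hx]; exact hv.symm
  obtain ⟨ζ, hζ, hpe⟩ := OutForm.eq_mul_center he
  have hdw : OutForm.pr (MulAut.conjNormal d w) = OutForm.pr w := by rw [← toGL_pr]; exact hdv
  obtain ⟨ε, hε, hwe⟩ := OutForm.eq_mul_center hdw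
  have hw' := congrArg (fun a : Q => (a : (Subgroup.centralizer ({z} : Set X)))) hwe
  simp only [Subgroup.coe_mul, MulAut.conjNormal_apply] at hw'
  have hε2 : (ε : (Subgroup.centralizer ({z} : Set X))) * ε = 1 := congrArg (fun a : Q => (a : (Subgroup.centralizer ({z} : Set X)))) (OutForm.sq_one_of_center hε)
  have hεc := center_coe hcen hε
  have hζc := center_coe hcen hζ
  rw [hpe]
  simp only [Subgroup.coe_mul, MulAut.conjNormal_apply]
  refine mul_inv_eq_iff_eq_mul.1 ?_
  calc d * ((w : (Subgroup.centralizer ({z} : Set X))) * (x * w * x⁻¹) * ζ) * d⁻¹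
      = (d * w * d⁻¹) * (d * x * (w : (Subgroup.centralizer ({z} : Set X))) * (d * x)⁻¹) * (d * ζ * d⁻¹) := by group
    _ = (d * w * d⁻¹) * (x * (d * w * d⁻¹) * x⁻¹) * (d * ζ * d⁻¹) := by rw [hdx]; group
    _ = (w : (Subgroup.centralizer ({z} : Set X))) * ((ε : (Subgroup.centralizer ({z} : Set X))) * (x * w)) * ((ε : (Subgroup.centralizer ({z} : Set X))) * x⁻¹) * ζ := by rw [hw', ← hζc d]; group
    _ = (w : (Subgroup.centralizer ({z} : Set X))) * (x * w) * ((ε : (Subgroup.centralizer ({z} : Set X))) * ε) * x⁻¹ * ζ := by rw [hεc (x * w)]; group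
    _ = _ := by rw [hε2]; group

theorem tr15_fix {n : OutForm.Vm Q ≃ₗ[ZMod 2] OutForm.Vm Q} (M : Model (OutForm.qf Q) n)
    {g : OutForm.Vm Q ≃ₗ[ZMod 2] OutForm.Vm Q} (hg : IsTr M g 15) {w : ℕ} (hw : w < 4096) (h1 : bn 15 w = 0)
    (h2 : bn (nmul 15) w = 0) : g (M.e w) = M.e w := by
  rw [hg w hw, (M.e_tr (by norm_num) hw).2, h1, h2]
  simp

/-- The span of the chosen vectors. -/
noncomputable def Wsp {n : OutForm.Vm Q ≃ₗ[ZMod 2] OutForm.Vm Q} (M : Model (OutForm.qf Q) n) :
    AddSubgroup (OutForm.Vm Q) := AddSubgroup.closure (M.e '' {w | w ∈ wB})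

theorem wB_spec {w : ℕ} (h : w ∈ wB) : w < 4096 ∧ bn 15 w = 0 ∧ bn (nmul 15) w = 0 ∧ bn 16 w = 0 := by
  have := List.all_eq_true.1 wB_ok.1 w h
  simp only [Bool.and_eq_true, decide_eq_true_eq, Nat.beq_eq] at this
  exact ⟨this.1.1.1, this.1.1.2, this.1.2, this.2⟩

/-- An involution over the transvection at 15, commuting with everything over the span. -/
theorem exists_h (hker : (toGL Q).ker = Q)
    (hcen : ∀ c ∈ Subgroup.center Q, ((c : (Subgroup.centralizer ({z} : Set X))) : X) = 1 ∨ ((c : (Subgroup.centralizer ({z} : Set X))) : X) = z)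
    {Γ₀ : Subgroup (OutForm.Vm Q ≃ₗ[ZMod 2] OutForm.Vm Q)} {n : OutForm.Vm Q ≃ₗ[ZMod 2] OutForm.Vm Q}
    (C : Co (OutForm.qf Q) Γ₀ n) (hrange : (toGL Q).range = autGroup C.M) :
    ∃ h : (Subgroup.centralizer ({z} : Set X)), IsTr C.M (toGL Q h) 15 ∧ h * h = 1 ∧ toGL Q h * n = n * toGL Q h ∧
      ∀ p : Q, OutForm.pr p ∈ Wsp C.M → h * (p : (Subgroup.centralizer ({z} : Set X))) = p * h := by
  obtain ⟨g0, hgA, hgn, hg2, hg⟩ := C.exists_tr (show 15 < 4096 by norm_num) t0_ok.2.2.1
  obtain ⟨x, hx, hx3⟩ := exists_x hker (hrange ▸ C.le_autGroup C.n_mem) C.n3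
  obtain ⟨d, hd, hdx⟩ := exists_commuting hker hcen C.n_fix hx hx3 (γ := g0) (hrange ▸ hgA) hgn
  have hdn : ∀ v, toGL Q d (n v) = n (toGL Q d v) := fun v => by
    rw [hd]; exact LinearEquiv.congr_fun hgn v
  have hfixW : ∀ v ∈ Wsp C.M, g0 v = v := by
    intro v hv
    induction hv using AddSubgroup.closure_induction with
    | mem v hv =>
      obtain ⟨w, hw, rfl⟩ := hv
      obtain ⟨h1, h2, h3, -⟩ := wB_spec hw
      exact tr15_fix C.M hg h1 h2 h3
    | zero => exact map_zero _
    | add v w _ _ hv hw => rw [map_add, hv, hw]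
    | neg v _ hv => rw [map_neg, hv]
  have hdcomm : ∀ p : Q, toGL Q d (OutForm.pr p) = OutForm.pr p → d * (p : (Subgroup.centralizer ({z} : Set X))) = p * d :=
    fun p hp => comm_of_fix hcen C.n_fix hx hdx hdn hp
  have hd2Q : d * d ∈ Q := by rw [← hker, MonoidHom.mem_ker, map_mul, hd, hg2]
  have hd2c : (⟨d * d, hd2Q⟩ : Q) ∈ Subgroup.center Q := by
    refine OutForm.pr_eq_zero.1 (C.n_fix _ ?_)
    rw [← hx, toGL_pr]
    congr 1
    apply Subtype.ext
    rw [MulAut.conjNormal_apply]
    show x * (d * d) * x⁻¹ = d * d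
    rw [← mul_assoc, ← hdx, mul_assoc d x d, ← hdx]
    group
  rcases OutForm.zeta_cases hd2c with e | e
  · exact ⟨d, hd ▸ hg, congrArg (fun a : Q => (a : (Subgroup.centralizer ({z} : Set X)))) e, by rw [hd]; exact hgn,
      fun p hp => hdcomm p (by rw [hd]; exact hfixW _ hp)⟩
  obtain ⟨j, hj⟩ := OutForm.pr_surjective (C.M.e 16)
  have hj2 : j * j = OutForm.zeta Q := by
    refine OutForm.eps_inj (OutForm.sq_mem j) OutForm.zeta_mem ?_
    rw [← OutForm.qf_apply, hj, C.M.q_e 16 (by norm_num), wB_ok.2.2.2.1, OutForm.eps_zeta, Nat.cast_one]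
  have hdj := hdcomm j (by rw [hd, hj]; exact tr15_fix C.M hg (by norm_num) wB_ok.2.2.2.2.1 wB_ok.2.2.2.2.2.1)
  have hjker : toGL Q (j : (Subgroup.centralizer ({z} : Set X))) = 1 := by rw [← MonoidHom.mem_ker, hker]; exact j.2
  have hmap : toGL Q (d * (j : (Subgroup.centralizer ({z} : Set X)))) = g0 := by rw [map_mul, hjker, mul_one, hd]
  refine ⟨d * j, hmap ▸ hg, ?_, by rw [hmap]; exact hgn, fun p hp => ?_⟩
  · have e1 : d * d = ((OutForm.zeta Q : Q) : (Subgroup.centralizer ({z} : Set X))) := congrArg (fun a : Q => (a : (Subgroup.centralizer ({z} : Set X)))) e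
    have e2 : (j : (Subgroup.centralizer ({z} : Set X))) * j = ((OutForm.zeta Q : Q) : (Subgroup.centralizer ({z} : Set X))) := congrArg (fun a : Q => (a : (Subgroup.centralizer ({z} : Set X)))) hj2
    have e3 : ((OutForm.zeta Q : Q) : (Subgroup.centralizer ({z} : Set X))) * ((OutForm.zeta Q : Q) : (Subgroup.centralizer ({z} : Set X))) = 1 :=
      congrArg (fun a : Q => (a : (Subgroup.centralizer ({z} : Set X)))) OutForm.zeta_sq
    calc d * (j : (Subgroup.centralizer ({z} : Set X))) * (d * j) = d * ((j : (Subgroup.centralizer ({z} : Set X))) * d) * j := by group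
      _ = (d * d) * ((j : (Subgroup.centralizer ({z} : Set X))) * j) := by rw [← hdj]; group
      _ = 1 := by rw [e1, e2, e3]
  · have hjp : (j : (Subgroup.centralizer ({z} : Set X))) * p = p * j := by
      have h0 : QuadraticMap.polar (OutForm.qf Q) (OutForm.pr j) (OutForm.pr p) = 0 := by
        rw [hj]
        have key : ∀ v ∈ Wsp C.M, QuadraticMap.polar (OutForm.qf Q) (C.M.e 16) v = 0 := by
          intro v hv
          induction hv using AddSubgroup.closure_induction with
          | mem v hv =>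
            obtain ⟨w, hw, rfl⟩ := hv
            obtain ⟨h1, -, -, h4⟩ := wB_spec hw
            rw [← C.M.bn_polar (by norm_num) h1, h4, Nat.cast_zero]
          | zero => exact QuadraticMap.polar_zero_right _ _
          | add v w _ _ hv hw => rw [QuadraticMap.polar_add_right, hv, hw, add_zero]
          | neg v _ hv => rw [QuadraticMap.polar_neg_right, hv, neg_zero]
        exact key _ hp
      have h1 : OutForm.eps ⁅j, p⁆ = 0 := by rw [← OutForm.polar_pr]; exact h0
      have h2 := commutatorElement_eq_one_iff_mul_comm.1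
        (OutForm.eps_inj (OutForm.comm_mem j p) (one_mem _) (h1.trans OutForm.eps_one.symm))
      exact congrArg (fun a : Q => (a : (Subgroup.centralizer ({z} : Set X)))) h2
    have hdp := hdcomm p (by rw [hd]; exact hfixW _ hp)
    rw [mul_assoc, hjp, ← mul_assoc, hdp, mul_assoc]

/-- A commuting conjugate inside gives `z` inside the conjugate group. -/
theorem mem_cj_of_mem (hS : Sd (Q.map (Subgroup.centralizer ({z} : Set X)).subtype) z) (hker : (toGL Q).ker = Q)
    (hbd : ∀ T ≤ (toGL Q).range, IsPGroup 2 T → Nat.card T ≤ 512) {g : X}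
    (hg : g * z * g⁻¹ ∈ Q.map (Subgroup.centralizer ({z} : Set X)).subtype) (hne : g * z * g⁻¹ ≠ z) :
    z ∈ cj g (Q.map (Subgroup.centralizer ({z} : Set X)).subtype) := by
  haveI : Fact (Nat.Prime 2) := ⟨Nat.prime_two⟩
  set E := Q.map (Subgroup.centralizer ({z} : Set X)).subtype with hE
  set a := g * z * g⁻¹ with ha
  have hS' := hS.conj g
  set E' := cj g E
  have S := hS.set
  have S' := hS'.set
  have haz : Commute a z := (S.hH a).1 (S.hEH hg)
  by_contra hz'
  set P := E ⊓ Subgroup.centralizer ({a} : Set X) with hP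
  have hPc : Nat.card E ≤ 2 * Nat.card P := half_centralizer E (b := a) (w := z) S.z2
    (fun p hp => by rw [(S.hH p).1 (S.hEH hp), mul_inv_cancel_right]) (fun p hp => by
      rcases S.comm p hp a hg with e | e
      · left; rw [e, mul_inv_cancel_right]
      · right; rw [e, mul_assoc a p z, (S.hH p).1 (S.hEH hp), ← mul_assoc, mul_inv_cancel_right])
  set B := P ⊓ E' with hB
  have hBc : ∀ b ∈ B, ∀ p ∈ P, p * b = b * p := by
    intro b hb p hp
    rcases S.comm p hp.1 b hb.1.1 with e | e
    · exact e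
    · exfalso
      refine hz' ?_
      have h1 : p * b * p⁻¹ ∈ E' := S'.hnorm p hp.2 b hb.2
      have h2 : b⁻¹ * (p * b * p⁻¹) = z := by
        rw [e, mul_assoc b p z, (S.hH p).1 (S.hEH hp.1)]; group
      exact h2 ▸ mul_mem (inv_mem hb.2) h1
  -- elements of the centre of the centraliser
  obtain ⟨p0, hp0, hp0'⟩ : ∃ p0 ∈ E, a * p0 ≠ p0 * a := by
    by_contra h
    push Not at h
    rcases S.cen a hg h with e | e
    · exact S'.z1 e
    · exact hne e
  have hBle : Nat.card B ≤ 4 := by
    classical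
    let F : Finset X := {1, z, a, a * z}
    have hmem : ∀ b : B, (b : X) ∈ F := by
      intro b
      have key : ∀ c ∈ E, (∀ p ∈ P, p * c = c * p) → c * p0 = p0 * c → c = 1 ∨ c = z := by
        intro c hc hcP hc0
        refine S.cen c hc fun x hx => ?_
        by_cases hxP : x ∈ P
        · exact (hcP x hxP).symm
        have hxa : x * a = a * x * z := (S.comm x hx a hg).resolve_left fun e =>
          hxP ⟨hx, Subgroup.mem_centralizer_singleton_iff.2 e⟩
        have e2 : p0 * a = a * p0 * z := (S.comm p0 hp0 a hg).resolve_left fun e => hp0' e.symm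
        have hzp : z * p0 = p0 * z := ((S.hH p0).1 (S.hEH hp0)).symm
        have hxp : p0⁻¹ * x ∈ P := by
          refine ⟨E.mul_mem (E.inv_mem hp0) hx, Subgroup.mem_centralizer_singleton_iff.2 (mul_left_cancel (a := p0) ?_)⟩
          have hzi : z * p0⁻¹ = p0⁻¹ * z := ((S.hH p0⁻¹).1 (S.hEH (inv_mem hp0))).symm
          have hzx : z * x = x * z := ((S.hH x).1 (S.hEH hx)).symm
          calc p0 * (p0⁻¹ * x * a) = a * x * z := by rw [← hxa]; group
            _ = a * (p0 * (p0⁻¹ * (z * x))) := by rw [hzx]; group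
            _ = a * p0 * z * (p0⁻¹ * x) := by rw [← mul_assoc p0⁻¹ z x, ← hzi]; group
            _ = p0 * (a * (p0⁻¹ * x)) := by rw [← e2]; group
        calc c * x = c * p0 * (p0⁻¹ * x) := by group
          _ = p0 * (c * (p0⁻¹ * x)) := by rw [hc0]; group
          _ = p0 * (p0⁻¹ * x * c) := by rw [hcP _ hxp]
          _ = x * c := by group
      rcases S.comm b b.2.1.1 p0 hp0 with e | e
      · rcases key b b.2.1.1 (hBc b b.2) e with e1 | e1 <;> simp [F, e1]
      · have ha2 : a * a = 1 := S'.z2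
        have h2 : (b : X) * a = 1 ∨ (b : X) * a = z := by
          refine key _ (mul_mem b.2.1.1 hg) (fun p hp => ?_) ?_
          · calc p * (b * a) = p * b * a := (mul_assoc _ _ _).symm
              _ = b * (p * a) := by rw [hBc b b.2 p hp, mul_assoc]
              _ = b * a * p := by rw [Subgroup.mem_centralizer_singleton_iff.1 hp.2, ← mul_assoc]
          · have e2 : a * p0 = p0 * a * z := (S.comm a hg p0 hp0).resolve_left hp0'
            show (b : X) * a * p0 = p0 * (b * a)
            rw [mul_assoc (b : X) a p0, e2, ← mul_assoc, ← mul_assoc, e, mul_assoc (p0 * (b : X)) z a, ← haz.eq,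
              mul_assoc (p0 * (b : X)), mul_assoc a z z, S.z2, mul_one, mul_assoc]
        rcases h2 with h2 | h2
        · have : (b : X) = a := (eq_inv_of_mul_eq_one_left h2).trans (inv_eq_of_mul_eq_one_right ha2)
          simp [F, this]
        · have : (b : X) = a * z := by rw [haz.eq, ← h2, mul_assoc, ha2, mul_one]
          simp [F, this]
    refine le_trans (Nat.card_le_card_of_injective (fun b : B => (⟨b, hmem b⟩ : F)) fun x y e =>
      Subtype.ext (congrArg (fun x : F => x.1) e)) ?_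
    rw [Nat.card_eq_finsetCard]
    exact Finset.card_le_four
  have hPC : cj g⁻¹ P ≤ (Subgroup.centralizer ({z} : Set X)) := by
    intro x hx
    rw [mem_cj, inv_inv] at hx
    have h1 : Commute (g * x * g⁻¹) (g * z * g⁻¹) := Subgroup.mem_centralizer_singleton_iff.1 hx.2
    refine Subgroup.mem_centralizer_singleton_iff.2 ?_
    have h2 := h1.map (MulAut.conj g⁻¹).toMonoidHom
    simpa [mul_assoc] using h2.eq
  obtain ⟨T, hT, hTp, hTc, -, -⟩ := exists_image Q hker (cj g⁻¹ P) hPC
    ((S.isP.to_le inf_le_left).map _)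
  have hTE : Nat.card ↥(cj g⁻¹ P ⊓ E) ≤ 4 := by
    refine le_trans (le_of_eq ?_) hBle
    rw [← card_cj g (cj g⁻¹ P ⊓ E)]
    congr 2
    ext x
    rw [hB, mem_cj, Subgroup.mem_inf, Subgroup.mem_inf, mem_cj, inv_inv, mem_cj]
    rw [show g * (g⁻¹ * x * g) * g⁻¹ = x by group]
  rw [card_cj] at hTc
  have := hbd T hT hTp
  have h13 := hS.card
  have h14 : Nat.card P ≤ 512 * 4 := hTc.le.trans (Nat.mul_le_mul this hTE)
  omega

/-- No conjugate of `z` lies over the vector 15. -/
theorem small_false (hS : Sd (Q.map (Subgroup.centralizer ({z} : Set X)).subtype) z) (hker : (toGL Q).ker = Q)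
    {Γ₀ : Subgroup (OutForm.Vm Q ≃ₗ[ZMod 2] OutForm.Vm Q)} {n : OutForm.Vm Q ≃ₗ[ZMod 2] OutForm.Vm Q}
    (C : Co (OutForm.qf Q) Γ₀ n) (hrange : (toGL Q).range = autGroup C.M) {g : X} {t : Q}
    (ht : ((t : (Subgroup.centralizer ({z} : Set X))) : X) = g * z * g⁻¹) (hpr : OutForm.pr t = C.M.e 15) : False := by
  haveI : Fact (Nat.Prime 2) := ⟨Nat.prime_two⟩
  set E := Q.map (Subgroup.centralizer ({z} : Set X)).subtype with hE
  set a := g * z * g⁻¹ with ha
  have S := hS.set
  have hg : a ∈ E := ⟨(t : (Subgroup.centralizer ({z} : Set X))), t.2, ht⟩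
  have hpr0 : OutForm.pr t ≠ 0 := by
    rw [hpr, ← C.M.zero]
    intro e
    have := C.M.inj 15 (by norm_num) 0 (by norm_num) e
    norm_num at this
  have hne : a ≠ z := fun e => hpr0 (OutForm.pr_eq_zero.2 (Subgroup.mem_center_iff.2 fun p => by
    apply Subtype.ext; apply Subtype.ext
    show ((p : (Subgroup.centralizer ({z} : Set X))) : X) * ((t : (Subgroup.centralizer ({z} : Set X))) : X) = ((t : (Subgroup.centralizer ({z} : Set X))) : X) * ((p : (Subgroup.centralizer ({z} : Set X))) : X)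
    rw [ht.trans e]; exact Subgroup.mem_centralizer_singleton_iff.1 (p : (Subgroup.centralizer ({z} : Set X))).2))
  have hzE' : z ∈ cj g E := mem_cj_of_mem hS hker (fun T hT hp => C.two_le_aut (hrange ▸ hT) hp) hg hne
  have hS' := hS.conj g
  set E' := cj g E
  have S' := hS'.set
  set C' := E' ⊓ (Subgroup.centralizer ({z} : Set X)) with hC'
  have hC'c : Nat.card E' ≤ 2 * Nat.card C' := half_centralizer E' (b := z) (w := a) S'.z2
    (fun p hp => by rw [(S'.hH p).1 (S'.hEH hp), mul_inv_cancel_right]) (fun p hp => by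
      rcases S'.comm p hp z hzE' with e | e
      · left; rw [e, mul_inv_cancel_right]
      · right; rw [e, mul_assoc z p a, (S'.hH p).1 (S'.hEH hp), ← mul_assoc, mul_inv_cancel_right])
  have hBab : ∀ x ∈ C' ⊓ E, ∀ y ∈ C' ⊓ E, x * y = y * x := by
    intro x hx y hy
    rcases S.comm x hx.2 y hy.2 with e | e
    · exact e
    rcases S'.comm x hx.1.1 y hy.1.1 with e' | e'
    · exact e'
    exact absurd (mul_left_cancel (e.symm.trans e')).symm hne
  have hB7 := hS.abelian (C' ⊓ E) inf_le_right hBab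
  obtain ⟨T, hT, hTp, hTc, hTm, hTin⟩ := exists_image Q hker C' inf_le_right (S'.isP.to_le inf_le_left)
  have h13 := hS'.card
  have h1 : Nat.card C' ≤ Nat.card T * 128 := hTc.le.trans (Nat.mul_le_mul_left _ hB7)
  have hfixiff : ∀ x : (Subgroup.centralizer ({z} : Set X)), ((x : X) * a = a * x) → toGL Q x (OutForm.pr t) = OutForm.pr t := by
    intro x hx
    rw [toGL_pr]
    congr 1
    apply Subtype.ext; rw [MulAut.conjNormal_apply]; apply Subtype.ext
    show (x : X) * ((t : (Subgroup.centralizer ({z} : Set X))) : X) * (x : X)⁻¹ = ((t : (Subgroup.centralizer ({z} : Set X))) : X)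
    rw [ht, hx, mul_inv_cancel_right]
  have hfix : ∀ s ∈ T, s (C.M.e 15) = C.M.e 15 := by
    intro s hs
    obtain ⟨x, hx, rfl⟩ := hTm s hs
    rw [← hpr]
    exact hfixiff _ ((S'.hH x).1 (S'.hEH hx.1))
  have hnorm : ∀ δ ∈ autGroup C.M, δ (C.M.e 15) = C.M.e 15 → ∀ s ∈ T, δ * s * δ⁻¹ ∈ T := by
    intro δ hδ hδ15 s hs
    obtain ⟨c, rfl⟩ := hrange.symm ▸ hδ
    obtain ⟨r, hr⟩ := exists_conj_of_pr (x := MulAut.conjNormal c t) (y := t)
      (by rw [← toGL_pr, hpr, hδ15]; exact hpr ▸ hpr0) (by rw [← toGL_pr, hpr, hδ15])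
    set d : (Subgroup.centralizer ({z} : Set X)) := (r : (Subgroup.centralizer ({z} : Set X))) * c with hd
    have hdt : (d : X) * a = a * d := by
      have e := congrArg (fun q : Q => ((q : (Subgroup.centralizer ({z} : Set X))) : X)) hr
      simp only [Subgroup.coe_mul, Subgroup.coe_inv, MulAut.conjNormal_apply, ht] at e
      refine mul_inv_eq_iff_eq_mul.1 ?_
      rw [hd, Subgroup.coe_mul]
      rw [show ((r : (Subgroup.centralizer ({z} : Set X))) : X) * (c : X) * a * (((r : (Subgroup.centralizer ({z} : Set X))) : X) * (c : X))⁻¹ =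
        ((r : (Subgroup.centralizer ({z} : Set X))) : X) * ((c : X) * a * (c : X)⁻¹) * ((r : (Subgroup.centralizer ({z} : Set X))) : X)⁻¹ by group]
      exact e
    have hδd : toGL Q d = toGL Q c := by
      rw [hd, map_mul, show toGL Q (r : (Subgroup.centralizer ({z} : Set X))) = 1 by rw [← MonoidHom.mem_ker, hker]; exact r.2, one_mul]
    obtain ⟨x, hx, rfl⟩ := hTm s hs
    rw [← hδd, ← map_inv, ← map_mul, ← map_mul]
    exact hTin _ ⟨S'.hnorm _ ((S'.hH _).2 hdt) x hx.1, Subgroup.mul_mem _ (Subgroup.mul_mem _ d.2 hx.2) (Subgroup.inv_mem _ d.2)⟩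
  have := C.no_normal_two (hrange ▸ hT) hTp hfix hnorm
  omega

end Cfsg.Agent.Fi24ByInvol
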