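/-
The centraliser does not induce all automorphisms of the coordinates.

* `transfer_fixed` : the transfer of a sign when only the base coset counts
* `index_four_false`
-/
import Cfsg.Agent.Lib.Fi24ByInvol.TransferLocal
import Cfsg.Agent.Lib.LargeExtraspecial.IndexTwo

set_option autoImplicit false
set_option linter.unusedSectionVars false

namespace Cfsg.Agent.Fi24ByInvol

open LargeExtraspecial LargeFischer Subgroup MulAction
open scoped commutatorElement

universe u

variable {X : Type u} [Group X] [Finite X] {z : X}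

/-- A 2-group commuting with `h` pairs off all cosets but those it fixes. -/
theorem transfer_fixed {H : Subgroup X} [Fintype (X ⧸ H)] (μ : H →* ℤˣ) {h : X} (hh2 : h * h = 1) (P : Subgroup X)
    (hP : IsPGroup 2 P) (hPH : P ≤ H) (hPh : ∀ p ∈ P, Commute p h)
    (hfix : ∀ g : X, (∀ p ∈ P, g⁻¹ * p * g ∈ H) → g⁻¹ * h * g ∈ H → g ∈ H) :
    MonoidHom.transfer μ h = TransferFixed.lam μ h := by
  classical
  haveI : Fact (Nat.Prime 2) := ⟨Nat.prime_two⟩
  let f : X ⧸ H → ℤˣ := fun q => Quotient.liftOn' q (fun g => TransferFixed.lam μ (g⁻¹ * h * g)) fun a b hab => by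
    rw [QuotientGroup.leftRel_apply] at hab
    rw [← TransferFixed.lam_conj hab (a⁻¹ * h * a)]
    congr 1
    group
  have hf : ∀ g : X, f (g : X ⧸ H) = TransferFixed.lam μ (g⁻¹ * h * g) := fun g => rfl
  rw [TransferFixed.transfer_eq_prod_fixed μ h f hf fun g r hr hrd hm => by
    have ho : orderOf h ∣ 2 := orderOf_dvd_of_pow_eq_one (by rw [pow_two]; exact hh2)
    have := Nat.le_of_dvd (by norm_num) (hrd.trans ho)
    obtain rfl : r = 2 := by omega
    rw [TransferFixed.lam_of_mem hm]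
    rw [show (⟨g⁻¹ * h ^ 2 * g, hm⟩ : H) = 1 from Subtype.ext (by
      show g⁻¹ * h ^ 2 * g = 1
      rw [pow_two, hh2]; group)]
    exact map_one μ]
  have hfP : ∀ p ∈ P, ∀ q, f (p • q) = f q := by
    intro p hp q
    induction q using QuotientGroup.induction_on with
    | _ g =>
      show TransferFixed.lam μ ((p * g)⁻¹ * h * (p * g)) = TransferFixed.lam μ (g⁻¹ * h * g)
      congr 1
      calc (p * g)⁻¹ * h * (p * g) = g⁻¹ * (p⁻¹ * (h * p)) * g := by group
        _ = g⁻¹ * (p⁻¹ * (p * h)) * g := by rw [(hPh p hp).eq]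
        _ = _ := by group
  set q1 : X ⧸ H := ((1 : X) : X ⧸ H)
  have hPq1 : ∀ p ∈ P, p • q1 = q1 := fun p hp => by
    rw [TransferFixed.mk_fixed_iff]; simpa using hPH hp
  have hone : ∏ x ∈ Finset.univ.erase q1, f x = 1 := by
    rw [← Finset.prod_fiberwise_of_maps_to (s := Finset.univ.erase q1)
      (g := fun x => (⟦x⟧ : Quotient (orbitRel P (X ⧸ H)))) (t := Finset.univ) (fun x _ => Finset.mem_univ _) f]
    refine Finset.prod_eq_one fun o _ => ?_
    by_cases ho : o = ⟦q1⟧
    · refine Finset.prod_eq_one fun x hx => absurd ?_ (Finset.mem_erase.1 (Finset.mem_filter.1 hx).1).1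
      obtain ⟨s, hs⟩ := Quotient.exact ((Finset.mem_filter.1 hx).2.trans ho)
      rw [← hs]; exact hPq1 s s.2
    have hset : ((Finset.univ.erase q1).filter fun x => (⟦x⟧ : Quotient (orbitRel P (X ⧸ H))) = o) =
        (MulAction.orbit P o.out).toFinset := by
      ext x
      simp only [Finset.mem_filter, Finset.mem_erase, Finset.mem_univ, and_true, Set.mem_toFinset]
      constructor
      · rintro ⟨-, hx⟩
        rw [← o.out_eq] at hx
        exact Quotient.exact hx
      · intro hx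
        have hxo : (⟦x⟧ : Quotient (orbitRel P (X ⧸ H))) = o := (Quotient.sound hx).trans o.out_eq
        exact ⟨fun e => ho (by rw [← hxo, e]), hxo⟩
    rw [hset, Finset.prod_congr rfl (fun x hx => (by
      obtain ⟨s, hs⟩ := Set.mem_toFinset.1 hx
      rw [← hs]; exact hfP s s.2 _ : f x = f o.out)), Finset.prod_const, Set.toFinset_card,
      ← Nat.card_eq_fintype_card]
    obtain ⟨k, hk⟩ := hP.card_orbit o.out
    rcases k with _ | k
    · -- a fixed coset
      suffices f o.out = 1 by rw [this, one_pow]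
      by_contra hne
      obtain ⟨g, hg⟩ := QuotientGroup.mk_surjective o.out
      have hall : ∀ p ∈ P, p • o.out = o.out := by
        intro p hp
        rw [pow_zero, Nat.card_eq_one_iff_unique] at hk
        exact congrArg Subtype.val (@Subsingleton.elim _ hk.1
          (⟨p • o.out, ⟨⟨p, hp⟩, rfl⟩⟩ : MulAction.orbit P o.out) ⟨o.out, MulAction.mem_orbit_self _⟩)
      rw [← hg, hf] at hne
      have hgH : g ∈ H := hfix g (fun p hp => (TransferFixed.mk_fixed_iff p g).1 (by rw [hg]; exact hall p hp))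
        (by_contra fun hc => hne (TransferFixed.lam_of_not_mem hc))
      refine ho ?_
      rw [← o.out_eq, ← hg, show (g : X ⧸ H) = q1 from (QuotientGroup.eq.2 (by simpa using hgH))]
    · rw [hk, pow_succ, pow_mul, Int.units_sq]
  rw [← Finset.mul_prod_erase Finset.univ f (Finset.mem_univ q1), hone, mul_one, hf]
  simp

theorem line_perp : ((List.range 27).all fun i => (lineOf 0 i).all fun x => decide (x < 4096) &&
    Nat.beq (bn 15 x) 0 && Nat.beq (bn (nmul 15) x) 0) = true := by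
  decide +kernel

variable {V : Type u} [AddCommGroup V] [Module (ZMod 2) V] [Finite V] {q : QuadraticForm (ZMod 2) V}
  {n : V ≃ₗ[ZMod 2] V} {Γ₀ : Subgroup (V ≃ₗ[ZMod 2] V)}

theorem comb_wB_mem (M : Model q n) : ∀ m, comb wB m < 4096 ∧
    M.e (comb wB m) ∈ AddSubgroup.closure (M.e '' {w | w ∈ wB}) := by
  have key : ∀ l : List ℕ, (∀ w ∈ l, w ∈ wB) → ∀ m, comb l m < 4096 ∧
      M.e (comb l m) ∈ AddSubgroup.closure (M.e '' {w | w ∈ wB}) := by
    intro l
    induction l with
    | nil => intro _ m; exact ⟨by show (0 : ℕ) < 4096; norm_num, by show M.e 0 ∈ _; rw [M.zero]; exact zero_mem _⟩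
    | cons a l ih =>
      intro hl m
      obtain ⟨h1, h2⟩ := ih (fun x hx => hl x (List.mem_cons_of_mem _ hx)) (m / 2)
      have ha : a < 4096 := (show ∀ w ∈ wB, w < 4096 by decide) a (hl a List.mem_cons_self)
      show (if Nat.beq (m % 2) 1 then a else 0) ^^^ comb l (m / 2) < 4096 ∧
        M.e ((if Nat.beq (m % 2) 1 then a else 0) ^^^ comb l (m / 2)) ∈ _
      split_ifs
      · refine ⟨xor_lt_pow ha h1, ?_⟩
        rw [M.add _ ha _ h1]
        exact add_mem (AddSubgroup.subset_closure ⟨a, hl a List.mem_cons_self, rfl⟩) h2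
      · rw [Nat.zero_xor]; exact ⟨h1, h2⟩
  exact key wB fun _ h => h

namespace Co

variable (C : Co q Γ₀ n)
include C

/-- What fixes the span is the identity or the transvection. -/
theorem fix_span {γ : V ≃ₗ[ZMod 2] V} (hγ : γ ∈ autGroup C.M) (hfix : ∀ w ∈ wB, γ (C.M.e w) = C.M.e w) :
    γ = 1 ∨ IsTr C.M γ 15 := by
  obtain ⟨A, hA⟩ := LargeFischer.mem_autGroup.1 hγ
  have hb : ∀ w ∈ wB, A.f w = w := fun w hw => by
    have h4 : w < 4096 := (show ∀ w ∈ wB, w < 4096 by decide) w hw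
    exact C.M.inj _ (A.lt w h4) w h4 ((hA w h4).trans (hfix w hw))
  obtain ⟨s, hs, hn⟩ := A.twist
  obtain rfl : s = 1 := by
    rcases hs with rfl | rfl
    · rfl
    · have h := hn 5 (by norm_num)
      rw [wB_ok.2.2.2.2.2.2.2.1, hb 10 (by decide), hb 5 (by decide)] at h
      exact absurd h (by decide)
  have hf0 : A.f 0 = 0 := by
    have := A.add 0 (by norm_num) 0 (by norm_num)
    rwa [Nat.xor_self, Nat.xor_self] at this
  have hcomb : ∀ m, A.f (comb wB m) = comb wB m := by
    have key : ∀ l : List ℕ, (∀ w ∈ l, w ∈ wB) → ∀ m, comb l m < 4096 ∧ A.f (comb l m) = comb l m := by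
      intro l
      induction l with
      | nil => intro _ m; exact ⟨by show (0 : ℕ) < 4096; norm_num, hf0⟩
      | cons a l ih =>
        intro hl m
        obtain ⟨h1, h2⟩ := ih (fun x hx => hl x (List.mem_cons_of_mem _ hx)) (m / 2)
        have ha : a < 4096 := (show ∀ w ∈ wB, w < 4096 by decide) a (hl a List.mem_cons_self)
        show (if Nat.beq (m % 2) 1 then a else 0) ^^^ comb l (m / 2) < 4096 ∧
          A.f ((if Nat.beq (m % 2) 1 then a else 0) ^^^ comb l (m / 2)) = _ ^^^ _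
        split_ifs
        · exact ⟨xor_lt_pow ha h1, by rw [A.add _ ha _ h1, h2, hb a (hl a List.mem_cons_self)]⟩
        · rw [Nat.zero_xor]; exact ⟨h1, h2⟩
    exact fun m => (key wB (fun _ h => h) m).2
  have hperp : ∀ x < 4096, bn 15 x = 0 → bn (nmul 15) x = 0 → A.f x = x := by
    intro x hx h1 h2
    have h := List.all_eq_true.1 cspan_ok x (List.mem_range.2 hx)
    rw [h1, h2] at h
    simp only [Nat.beq_refl, Bool.and_self, Bool.not_true, Bool.false_or, List.any_eq_true, List.mem_range,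
      Nat.beq_eq] at h
    obtain ⟨u, hu, m, -, he⟩ := h
    have hu4 : u < 4096 := (show ∀ u ∈ [0, 16], u < 4096 by decide) u hu
    have hfu : A.f u = u := by
      simp only [List.mem_cons, List.not_mem_nil, or_false] at hu
      rcases hu with rfl | rfl
      · exact hf0
      · exact hb 16 (by decide)
    have hx' : x = comb wB m ^^^ nmul u := by
      rw [he]; show x = Nat.xor x (nmul u) ^^^ nmul u
      show x = (x ^^^ nmul u) ^^^ nmul u
      rw [Nat.xor_assoc, Nat.xor_self, Nat.xor_zero]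
    rw [hx', A.add _ (comb_wB_mem C.M m).1 _ (nmul_lt' hu4), hcomb, hn u hu4, hfu]
    rfl
  have h15 : A.f 15 = 15 := by
    obtain ⟨h1, h2⟩ : bn 15 15 = 0 ∧ bn (nmul 15) 15 = 0 := by decide +kernel
    exact hperp 15 (by norm_num) h1 h2
  have hline : ∀ i < 27, ∀ x < 4096, A.f x ∈ lineOf 0 i ↔ x ∈ lineOf 0 i := by
    intro i hi x hx
    have key : ∀ y ∈ lineOf 0 i, A.f y = y := fun y hy => by
      have h := List.all_eq_true.1 (List.all_eq_true.1 line_perp i (List.mem_range.2 hi)) y hy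
      simp only [Bool.and_eq_true, decide_eq_true_eq, Nat.beq_eq] at h
      exact hperp y h.1.1 h.1.2 h.2
    refine ⟨fun h => ?_, fun h => by rw [key x h]; exact h⟩
    have e := A.inj _ (A.lt x hx) x hx (key _ h)
    rwa [e] at h
  rcases A.kernel C.M (by norm_num) h15 hline with h | h
  · refine Or.inl (LinearEquiv.ext fun v => ?_)
    obtain ⟨x, hx, rfl⟩ := C.M.surj v
    rw [← hA x hx, h x hx]; rfl
  · exact Or.inr fun x hx => by rw [← hA x hx, h x hx]

/-- A subgroup of index two in all automorphisms, with no transvection. -/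
theorem exists_half (hnorm : ∀ γ ∈ autGroup C.M, ∀ g ∈ Γ₀, γ * g * γ⁻¹ ∈ Γ₀) {t : V ≃ₗ[ZMod 2] V}
    (ht : t ∈ autGroup C.M) (htn : t * n = n * t) (ht0 : IsTr C.M t 15) :
    ∃ N : Subgroup (V ≃ₗ[ZMod 2] V), t ∉ N ∧
      ∀ b ∈ autGroup C.M, Xor' (b * t ∈ N) (b ∈ N) := by
  classical
  obtain ⟨σ, hσ, hσ2, hσn, -⟩ := C.exists_semi
  have hσi : σ⁻¹ = σ := inv_eq_of_mul_eq_one_right hσ2
  have hσc : ∀ g ∈ Γ₀, σ * g * σ ∈ Γ₀ := fun g hg => by
    have := hnorm σ hσ g hg
    rwa [hσi] at this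
  have t0 : t ∉ Γ₀ := C.not_tr (by norm_num) t0_ok.2.2.1 ht0
  obtain ⟨hidx, hle⟩ := C.lin_index
  set L := autGroup C.M ⊓ Subgroup.centralizer {n}
  have hL : ∀ {a b : V ≃ₗ[ZMod 2] V}, a ∈ L → b ∈ L → (a * b ∈ Γ₀ ↔ (a ∈ Γ₀ ↔ b ∈ Γ₀)) := fun ha hb =>
    Subgroup.mul_mem_iff_of_index_two hidx (a := ⟨_, ha⟩) (b := ⟨_, hb⟩)
  have hconj : ∀ γ ∈ autGroup C.M, γ * n * γ⁻¹ = n ∨ γ * n * γ⁻¹ = n * n := by
    intro γ hγ
    obtain ⟨A, hA⟩ := LargeFischer.mem_autGroup.1 hγ
    obtain ⟨s, hs, hn⟩ := A.twist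
    have key : γ * n = n ^ s * γ := by
      refine LinearEquiv.ext fun v => ?_
      obtain ⟨x, hx, rfl⟩ := C.M.surj v
      show γ (n (C.M.e x)) = (n ^ s) (γ (C.M.e x))
      rw [C.M.n_e x hx, ← hA _ (nmul_lt' hx), hn x hx, e_npow C.M (A.lt x hx) s, hA x hx]
    rcases hs with rfl | rfl
    · left; rw [key, pow_one]; group
    · right; rw [key, pow_two]; group
  have hσnn : σ * n * σ⁻¹ = n * n := (hconj σ hσ).resolve_left fun e => hσn (mul_inv_eq_iff_eq_mul.1 e)
  let N : Subgroup (V ≃ₗ[ZMod 2] V) :=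
    { carrier := {b | b ∈ Γ₀ ∨ b * σ ∈ Γ₀}
      one_mem' := Or.inl (one_mem _)
      mul_mem' := by
        rintro a b (ha | ha) (hb | hb)
        · exact Or.inl (mul_mem ha hb)
        · exact Or.inr (by rw [mul_assoc]; exact mul_mem ha hb)
        · right
          rw [show a * b * σ = a * σ * (σ⁻¹ * b * σ) by group, hσi]
          exact mul_mem ha (hσc b hb)
        · left
          rw [show a * b = a * σ * (σ⁻¹ * (b * σ) * σ⁻¹) by group, hσi]
          exact mul_mem ha (hσc _ hb)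
      inv_mem' := by
        rintro a (ha | ha)
        · exact Or.inl (inv_mem ha)
        · right
          rw [show a⁻¹ * σ = σ * ((a * σ)⁻¹) * σ by group]
          exact hσc _ (inv_mem ha) }
  have hN : ∀ b, b ∈ N ↔ b ∈ Γ₀ ∨ b * σ ∈ Γ₀ := fun b => Iff.rfl
  have hlinσ : ∀ {b}, b ∈ L → b * σ ∉ Γ₀ := fun {b} hb hm => by
    have h1 : b⁻¹ * (b * σ) ∈ L := mul_mem (inv_mem hb) (hle hm)
    rw [inv_mul_cancel_left] at h1
    exact hσn (Subgroup.mem_centralizer_singleton_iff.1 h1.2)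
  have htL : t ∈ L := ⟨ht, Subgroup.mem_centralizer_singleton_iff.2 htn⟩
  refine ⟨N, fun h => h.elim t0 (hlinσ htL), fun b hb => ?_⟩
  have hbt : b * t ∈ autGroup C.M := mul_mem hb ht
  rcases hconj b hb with e | e
  · have hbL : b ∈ L := ⟨hb, Subgroup.mem_centralizer_singleton_iff.2 (mul_inv_eq_iff_eq_mul.1 e)⟩
    rw [hN, hN, or_iff_left (hlinσ (mul_mem hbL htL)), or_iff_left (hlinσ hbL), hL hbL htL,
      iff_false_right t0]
    by_cases h : b ∈ Γ₀
    · exact Or.inr ⟨h, not_not_intro h⟩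
    · exact Or.inl ⟨h, h⟩
  · have hne : n * n ≠ n := fun h => by
      have h1 : n = 1 := mul_eq_left.1 h
      exact hσn (by rw [h1, mul_one, one_mul])
    have hbσ : b * σ ∈ L := ⟨mul_mem hb hσ, Subgroup.mem_centralizer_singleton_iff.2 (mul_inv_eq_iff_eq_mul.1 (by
      calc b * σ * n * (b * σ)⁻¹ = b * (σ * n * σ⁻¹) * b⁻¹ := by group
        _ = (b * n * b⁻¹) * (b * n * b⁻¹) := by rw [hσnn]; group
        _ = n ^ 3 * n := by rw [e]; simp [pow_succ, mul_assoc]
        _ = n := by rw [C.n3, one_mul]))⟩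
    have hnot : ∀ {c}, c * n * c⁻¹ = n * n → c ∉ Γ₀ := fun {c} he hc => hne (he.symm.trans (C.cent c hc))
    have hbtn : b * t * n * (b * t)⁻¹ = n * n := by
      rw [← e, show b * t * n * (b * t)⁻¹ = b * (t * n * t⁻¹) * b⁻¹ by group, mul_inv_eq_iff_eq_mul.2 htn]
    have htσ : σ * t * σ ∈ L ∧ σ * t * σ ∉ Γ₀ := by
      refine ⟨⟨mul_mem (mul_mem hσ ht) hσ, Subgroup.mem_centralizer_singleton_iff.2 (mul_inv_eq_iff_eq_mul.1 ?_)⟩,
        fun hm => t0 ?_⟩
      · calc σ * t * σ * n * (σ * t * σ)⁻¹ = σ * (t * (σ * n * σ⁻¹) * t⁻¹) * σ⁻¹ := by group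
          _ = σ * ((t * n * t⁻¹) * (t * n * t⁻¹)) * σ⁻¹ := by rw [hσnn]; group
          _ = (σ * n * σ⁻¹) * (σ * n * σ⁻¹) := by rw [mul_inv_eq_iff_eq_mul.2 htn]; group
          _ = n ^ 3 * n := by rw [hσnn]; simp [pow_succ, mul_assoc]
          _ = n := by rw [C.n3, one_mul]
      · have := hσc _ hm
        rwa [show σ * (σ * t * σ) * σ = (σ * σ) * t * (σ * σ) by group, hσ2, one_mul, mul_one] at this
    rw [hN, hN, or_iff_right (hnot hbtn), or_iff_right (hnot e),
      show b * t * σ = b * σ * (σ⁻¹ * t * σ) by group, hσi, hL hbσ htσ.1, iff_false_right htσ.2]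
    by_cases h : b * σ ∈ Γ₀
    · exact Or.inr ⟨h, not_not_intro h⟩
    · exact Or.inl ⟨h, h⟩

end Co

variable (Q : Subgroup (Subgroup.centralizer ({z} : Set X))) [Q.Normal] [Fact (Cfsg.IsExtraspecial 2 Q)]

/-- The centraliser does not induce all automorphisms of the coordinates. -/
theorem index_four_false (hz : orderOf z = 2) (hcard : Nat.card Q = 2 ^ 13)
    (hcent : Subgroup.centralizer (Q : Set (Subgroup.centralizer ({z} : Set X))) ≤ Q)
    (hres : Cfsg.pResidual 2 X = ⊤)
    {Γ₀ : Subgroup (OutForm.Vm Q ≃ₗ[ZMod 2] OutForm.Vm Q)} {n : OutForm.Vm Q ≃ₗ[ZMod 2] OutForm.Vm Q}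
    (C : Co (OutForm.qf Q) Γ₀ n) (hnorm : ∀ γ ∈ (toGL Q).range, ∀ g ∈ Γ₀, γ * g * γ⁻¹ ∈ Γ₀)
    (hrange : (toGL Q).range = autGroup C.M) : False := by
  classical
  haveI : Fact (Nat.Prime 2) := ⟨Nat.prime_two⟩
  have hker := toGL_ker (Q := Q) hcent
  obtain ⟨hS, hcen⟩ := sd_of hz Q ‹Fact (Cfsg.IsExtraspecial 2 Q)›.out hcard hcent
  set E := Q.map (Subgroup.centralizer ({z} : Set X)).subtype with hE
  have S := hS.set
  obtain ⟨h, htr, hh2, hhn, hcomm⟩ := exists_h hker hcen C hrange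
  have hin : ∀ y, toGL Q y ∈ autGroup C.M := fun y => hrange ▸ ⟨y, rfl⟩
  -- the sign
  obtain ⟨N, htN, hxor⟩ := C.exists_half (fun γ hγ => hnorm γ (hrange ▸ hγ)) (hin h) hhn htr
  set M2 := N.comap (toGL Q) with hM2
  have hidx : M2.index = 2 := Subgroup.index_eq_two_iff.2 ⟨h, fun b => by
    rw [hM2, Subgroup.mem_comap, Subgroup.mem_comap, map_mul]; exact hxor _ (hin b)⟩
  let μ := IndexTwo.signHom M2 hidx
  have hμh : TransferFixed.lam μ (h : X) ≠ 1 := by
    rw [TransferFixed.lam_of_mem h.2, Ne, IndexTwo.signHom_eq_one]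
    exact htN
  -- the 2-group
  let Pq : Subgroup Q :=
    { carrier := {p | OutForm.pr p ∈ Wsp C.M}
      one_mem' := by show OutForm.pr (1 : Q) ∈ Wsp C.M; rw [OutForm.pr_eq_zero.2 (one_mem _)]; exact zero_mem _
      mul_mem' := fun {a b} ha hb => by show OutForm.pr (a * b) ∈ Wsp C.M; rw [OutForm.pr_mul]; exact add_mem ha hb
      inv_mem' := fun {a} ha => by show OutForm.pr a⁻¹ ∈ Wsp C.M; rw [OutForm.pr_inv]; exact ha }
  let φ : Q →* X := (Subgroup.centralizer ({z} : Set X)).subtype.comp Q.subtype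
  have hφi : Function.Injective φ :=
    (Subgroup.centralizer ({z} : Set X)).subtype_injective.comp Q.subtype_injective
  set P := Pq.map φ with hP
  have hPE : P ≤ E := by rintro _ ⟨p, -, rfl⟩; exact ⟨(p : (Subgroup.centralizer ({z} : Set X))), p.2, rfl⟩
  have hPh : ∀ p ∈ P, Commute p (h : X) := by
    rintro _ ⟨p, hp, rfl⟩
    exact (congrArg (fun y : (Subgroup.centralizer ({z} : Set X)) => (y : X)) (hcomm p hp)).symm
  have hzP : z ∈ P := by
    obtain ⟨y, hy, he⟩ := S.zE
    refine ⟨⟨y, hy⟩, ?_, he⟩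
    show OutForm.pr (⟨y, hy⟩ : Q) ∈ Wsp C.M
    rw [OutForm.pr_eq_zero.2 (Subgroup.mem_center_iff.2 fun p => ?_)]
    · exact zero_mem _
    apply Subtype.ext; apply Subtype.ext
    show ((p : (Subgroup.centralizer ({z} : Set X))) : X) * (y : X) = (y : X) * _
    rw [show (y : X) = z from he]
    exact Subgroup.mem_centralizer_singleton_iff.1 (p : (Subgroup.centralizer ({z} : Set X))).2
  have hP10 : 1024 ≤ Nat.card P := by
    have hlift : ∀ m : Fin 512, ∃ p : Q, OutForm.pr p = C.M.e (comb wB m) := fun m => OutForm.pr_surjective _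
    choose l hl using hlift
    let f : Fin 512 × Subgroup.center Q → Pq := fun a => ⟨l a.1 * (a.2 : Q), by
      show OutForm.pr _ ∈ Wsp C.M
      rw [OutForm.pr_mul, OutForm.pr_eq_zero.2 a.2.2, add_zero, hl]
      exact (comb_wB_mem C.M _).2⟩
    have hinj : Function.Injective f := by
      rintro ⟨m, c⟩ ⟨m', c'⟩ e
      have e' : l m * (c : Q) = l m' * (c' : Q) := congrArg Subtype.val e
      have e2 := congrArg OutForm.pr e'
      rw [OutForm.pr_mul, OutForm.pr_mul, OutForm.pr_eq_zero.2 c.2, OutForm.pr_eq_zero.2 c'.2, add_zero, add_zero,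
        hl, hl] at e2
      obtain rfl : m = m' := Fin.ext (List.inj_on_of_nodup_map wB_ok.2.2.1 (List.mem_range.2 m.isLt)
        (List.mem_range.2 m'.isLt) (C.M.inj _ (comb_wB_mem C.M _).1 _ (comb_wB_mem C.M _).1 e2))
      rw [Subtype.ext (mul_left_cancel e')]
    have := Nat.card_le_card_of_injective f hinj
    rw [Nat.card_prod, Nat.card_fin, ‹Fact (Cfsg.IsExtraspecial 2 Q)›.out.2] at this
    rwa [hP, ← Nat.card_congr (Pq.equivMapOfInjective _ hφi).toEquiv]
  have hwB : ∀ w ∈ wB, ∃ p ∈ Pq, OutForm.pr p = C.M.e w := fun w hw => by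
    obtain ⟨p, hp⟩ := OutForm.pr_surjective (C.M.e w)
    exact ⟨p, by show OutForm.pr p ∈ Wsp C.M; rw [hp]; exact AddSubgroup.subset_closure ⟨w, hw, rfl⟩, hp⟩
  -- involutions commuting with the 2-group
  have hinv : ∀ y : Q, (∀ p ∈ Pq, y * p = p * y) → y * y = 1 →
      ∃ x ∈ [0, 15, 5, 10], OutForm.pr y = C.M.e x := by
    intro y hy hy2
    obtain ⟨x, hx, hxe⟩ := C.M.surj (OutForm.pr y)
    refine ⟨x, ?_, hxe.symm⟩
    have hqx : qn x = 0 := by
      have e : (qn x : ZMod 2) = 0 := by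
        rw [← C.M.q_e x hx, hxe, OutForm.qf_apply, hy2, OutForm.eps_one]
      exact cast_inj_two (qn_lt x) (by norm_num) (by rw [e, Nat.cast_zero])
    have h := List.all_eq_true.1 wB_ok.2.1 x (List.mem_range.2 hx)
    simp only [Bool.or_eq_true, List.any_eq_true, Nat.beq_eq, List.contains_iff_mem] at h
    rcases h with (⟨w, hw, e⟩ | e) | e
    · exfalso
      obtain ⟨p, hp, hpe⟩ := hwB w hw
      have h0 : QuadraticMap.polar (OutForm.qf Q) (OutForm.pr y) (OutForm.pr p) = 0 := by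
        rw [show QuadraticMap.polar (OutForm.qf Q) (OutForm.pr y) (OutForm.pr p) = OutForm.eps ⁅y, p⁆ from
          OutForm.polar_pr y p, commutatorElement_eq_one_iff_mul_comm.2 (hy p hp), OutForm.eps_one]
      rw [← hxe, hpe, ← C.M.bn_polar hx (wB_spec hw).1, e] at h0
      simp at h0
    · rw [hqx] at e; exact absurd e (by decide)
    · exact e
  -- only `z`
  have honly : ∀ g : X, (∀ p ∈ P, Commute (g * z * g⁻¹) p) → Commute (g * z * g⁻¹) (h : X) → g * z * g⁻¹ = z := by
    intro g hgP hgh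
    by_contra hne
    set a := g * z * g⁻¹ with ha
    have haH : a ∈ Subgroup.centralizer ({z} : Set X) := Subgroup.mem_centralizer_singleton_iff.2 (hgP z hzP).eq
    have ha2 : a * a = 1 := by
      rw [ha, show g * z * g⁻¹ * (g * z * g⁻¹) = g * (z * z) * g⁻¹ by group, S.z2]; group
    set β : Subgroup.centralizer ({z} : Set X) := ⟨a, haH⟩
    have hfixw : ∀ w ∈ wB, toGL Q β (C.M.e w) = C.M.e w := by
      intro w hw
      obtain ⟨p, hp, hpe⟩ := hwB w hw
      rw [← hpe, toGL_pr]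
      congr 1
      apply Subtype.ext; rw [MulAut.conjNormal_apply]; apply Subtype.ext
      exact mul_inv_eq_iff_eq_mul.2 (hgP _ ⟨p, hp, rfl⟩).eq
    have hβQ : ∀ c : (Subgroup.centralizer ({z} : Set X)), toGL Q c = 1 → c * c = 1 →
        (∀ p ∈ P, Commute (c : X) p) → ∃ hc : c ∈ Q, ∃ x ∈ [0, 15, 5, 10], OutForm.pr (⟨c, hc⟩ : Q) = C.M.e x := by
      intro c hc hc2 hcP
      have hcQ : c ∈ Q := hker ▸ MonoidHom.mem_ker.2 hc
      exact ⟨hcQ, hinv ⟨c, hcQ⟩ (fun p hp => Subtype.ext (Subtype.ext (hcP _ ⟨p, hp, rfl⟩).eq)) (Subtype.ext hc2)⟩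
    rcases C.fix_span (hin β) hfixw with e | e
    · obtain ⟨hβ, x, hx, hxe⟩ := hβQ β e (Subtype.ext ha2) hgP
      by_cases hx0 : x = 0
      · rw [hx0, C.M.zero, OutForm.pr_eq_zero] at hxe
        rcases hcen _ hxe with e' | e'
        · exact S.z1 (conj_eq_one_iff.1 e')
        · exact hne e'
      have hxs : x < 4096 ∧ inSmall 0 x = true := by
        simp only [List.mem_cons, List.not_mem_nil, or_false] at hx
        rcases hx with rfl | rfl | rfl | rfl
        · exact absurd rfl hx0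
        exacts [⟨by norm_num, wB_ok.2.2.2.2.2.2.2.2.2.2⟩, ⟨by norm_num, wB_ok.2.2.2.2.2.2.2.2.1⟩,
          ⟨by norm_num, wB_ok.2.2.2.2.2.2.2.2.2.1⟩]
      obtain ⟨γ, hγ, hγe⟩ := C.trans x hxs.1 15 (by norm_num) hxs.2 t0_ok.2.2.1
      obtain ⟨k, hk⟩ := hrange.symm ▸ C.le_autGroup hγ
      refine small_false hS hker C hrange (g := (k : X) * g) (t := MulAut.conjNormal k (⟨β, hβ⟩ : Q)) ?_ ?_
      · rw [MulAut.conjNormal_apply]
        show (k : X) * a * (k : X)⁻¹ = _
        rw [ha]; group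
      · rw [← toGL_pr, hxe, hk, hγe]
    · have hρ : toGL Q β = toGL Q h := e.unique htr
      have hx1 : toGL Q (h * β) = 1 := by rw [map_mul, hρ, ← map_mul, hh2, map_one]
      have hht1 : toGL Q h ≠ 1 := fun e1 => C.not_tr (by norm_num) t0_ok.2.2.1 htr (e1 ▸ one_mem _)
      have haE : a ∉ E := fun ⟨y, hy, he⟩ => hht1 (by
        rw [← hρ, ← MonoidHom.mem_ker, hker]
        exact (show β = y from Subtype.ext he.symm) ▸ hy)
      have hzE' : z ∉ cj g E := fun hc => by
        rw [mem_cj] at hc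
        have hb : g⁻¹ * z * g⁻¹⁻¹ ∈ E := by rwa [inv_inv]
        have hbne : g⁻¹ * z * g⁻¹⁻¹ ≠ z := fun e' => hne (by
          calc a = g * (g⁻¹ * z * g⁻¹⁻¹) * g⁻¹ := by rw [e', ha]
            _ = z := by group)
        have hh' := mem_cj_of_mem hS hker (fun T hT hp => C.two_le_aut (hrange ▸ hT) hp) hb hbne
        rw [mem_cj, inv_inv] at hh'
        exact haE hh'
      have S' := (hS.conj g).set
      set E' := cj g E
      set B := P ⊓ E' with hB
      have hBc : ∀ b ∈ B, ∀ p ∈ P, b * p = p * b := by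
        intro b hb p hp
        rcases S.comm b (hPE hb.1) p (hPE hp) with e' | e'
        · exact e'
        · refine absurd ?_ hzE'
          have h1 : p * b * p⁻¹ ∈ E' := S'.hnorm p ((S'.hH p).2 (hgP p hp).symm.eq) b hb.2
          have hbz : b * z = z * b := (S.hH b).1 (S.hEH (hPE hb.1))
          have hpz : p * z = z * p := (S.hH p).1 (S.hEH (hPE hp))
          have h2 : p * b * p⁻¹ = b * z := by
            have e3 : b * z * p = p * b := by
              calc b * z * p = b * (z * p) := mul_assoc _ _ _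
                _ = b * p * z := by rw [← hpz, ← mul_assoc]
                _ = p * b * (z * z) := by rw [e', mul_assoc (p * b)]
                _ = p * b := by rw [S.z2, mul_one]
            exact (mul_inv_eq_iff_eq_mul.2 e3.symm)
          rw [h2] at h1
          have := Subgroup.mul_mem _ (Subgroup.inv_mem _ hb.2) h1
          rwa [inv_mul_cancel_left] at this
      have hBcard : Nat.card B ≤ 4 := by
        let F : Finset (OutForm.Vm Q) := ([0, 15, 5, 10].map C.M.e).toFinset
        have hmem : ∀ b : B, ∃ p : Q, p ∈ Pq ∧ φ p = b ∧ OutForm.pr p ∈ F := by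
          intro b
          obtain ⟨p, hp, hpb⟩ := b.2.1
          refine ⟨p, hp, hpb, ?_⟩
          obtain ⟨x, hx, hxe⟩ := hinv p (fun q hq => hφi (by
            rw [map_mul, map_mul, hpb]; exact hBc _ b.2 _ ⟨q, hq, rfl⟩)) (hφi (by
            rw [map_mul, map_one, hpb]
            rcases S.sq _ (hPE b.2.1) with e' | e'
            · exact e'
            · exact absurd (e' ▸ mul_mem b.2.2 b.2.2) hzE'))
          exact List.mem_toFinset.2 (hxe ▸ List.mem_map.2 ⟨x, hx, rfl⟩)
        choose pf hpf1 hpf2 hpf3 using hmem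
        refine le_trans (Nat.card_le_card_of_injective (fun b : B => (⟨_, hpf3 b⟩ : F)) fun b b' e' => ?_) ?_
        · have e'' : OutForm.pr (pf b) = OutForm.pr (pf b') := congrArg (fun v : F => v.1) e'
          obtain ⟨c, hc, hce⟩ := OutForm.eq_mul_center e''
          have hφc : φ c ∈ E' := by
            have h1 : (b : X) = b' * φ c := by rw [← hpf2 b, ← hpf2 b', ← map_mul, hce]
            have h2 := Subgroup.mul_mem _ (Subgroup.inv_mem _ b'.2.2) b.2.2
            rwa [h1, inv_mul_cancel_left] at h2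
          have hc1 : φ c = 1 := (hcen c hc).resolve_right fun e1 => hzE' (e1 ▸ hφc)
          apply Subtype.ext
          rw [← hpf2 b, ← hpf2 b', hce, map_mul, hc1, mul_one]
        · rw [Nat.card_eq_finsetCard]
          exact (List.toFinset_card_le _).trans (by simp)
      have hPC : cj g⁻¹ P ≤ Subgroup.centralizer ({z} : Set X) := by
        intro y hy
        rw [mem_cj, inv_inv] at hy
        have h2 := (hgP _ hy).symm.map (MulAut.conj g⁻¹).toMonoidHom
        refine Subgroup.mem_centralizer_singleton_iff.2 ?_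
        simpa [ha, mul_assoc] using h2.eq
      obtain ⟨T, hT, hTp, hTc, hTm, -⟩ := exists_image Q hker (cj g⁻¹ P) hPC ((S.isP.to_le hPE).map _)
      have hTE : Nat.card ↥(cj g⁻¹ P ⊓ E) ≤ 4 := by
        refine le_trans (le_of_eq ?_) hBcard
        rw [← card_cj g (cj g⁻¹ P ⊓ E)]
        congr 2
        ext x
        rw [hB, mem_cj, Subgroup.mem_inf, Subgroup.mem_inf, mem_cj, inv_inv, mem_cj]
        rw [show g * (g⁻¹ * x * g) * g⁻¹ = x by group]
      rw [card_cj] at hTc
      have h256 : 256 ≤ Nat.card T := by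
        have := hTc.le.trans (Nat.mul_le_mul_left _ hTE)
        omega
      set bz : Subgroup.centralizer ({z} : Set X) := ⟨g⁻¹ * z * g, hPC ⟨z, hzP, by simp [MulAut.conj_apply]⟩⟩
      refine C.not_small_commutators (hrange ▸ hT) hTp h256 (toGL Q bz) fun u hu v hv => ?_
      obtain ⟨x, hx, rfl⟩ := hTm u hu
      obtain ⟨y, hy, rfl⟩ := hTm v hv
      rw [← map_commutatorElement]
      rw [mem_cj, inv_inv] at hx hy
      rcases S.comm _ (hPE hx) _ (hPE hy) with e' | e'
      · left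
        rw [← map_one (toGL Q)]
        congr 1
        apply Subtype.ext
        show x * y * x⁻¹ * y⁻¹ = 1
        calc x * y * x⁻¹ * y⁻¹ = g⁻¹ * ((g * x * g⁻¹) * (g * y * g⁻¹)) * g * x⁻¹ * y⁻¹ := by group
          _ = 1 := by rw [e']; group
      · right
        congr 1
        apply Subtype.ext
        show x * y * x⁻¹ * y⁻¹ = g⁻¹ * z * g
        have hcz : Commute ((g * y * g⁻¹) * (g * x * g⁻¹)) z := (S.hH _).1 (S.hEH (mul_mem (hPE hy) (hPE hx)))
        calc x * y * x⁻¹ * y⁻¹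
            = g⁻¹ * (((g * x * g⁻¹) * (g * y * g⁻¹)) * ((g * y * g⁻¹) * (g * x * g⁻¹))⁻¹) * g := by group
          _ = _ := by rw [e', hcz.eq, mul_inv_cancel_right]
  -- the transfer
  haveI : Fintype (X ⧸ Subgroup.centralizer ({z} : Set X)) := Fintype.ofFinite _
  have ht := transfer_fixed μ (h := (h : X)) (congrArg (fun y : (Subgroup.centralizer ({z} : Set X)) => (y : X)) hh2) P
    (S.isP.to_le hPE) (hPE.trans S.hEH) hPh fun g hgP hgh => by
      have hc : ∀ y, g⁻¹ * y * g ∈ Subgroup.centralizer ({z} : Set X) → Commute (g * z * g⁻¹) y := fun y hy => by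
        have h2 := (show Commute (g⁻¹ * y * g) z from Subgroup.mem_centralizer_singleton_iff.1 hy).map
          (MulAut.conj g).toMonoidHom
        simpa [mul_assoc] using h2.symm
      have e := honly g (fun p hp => hc p (hgP p hp)) (hc _ hgh)
      exact Subgroup.mem_centralizer_singleton_iff.2 (mul_inv_eq_iff_eq_mul.1 e)
  rw [TransferFixed.hom_eq_one hres] at ht
  exact hμh ht.symm

end Cfsg.Agent.Fi24ByInvol
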